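import Groth.Agent.EulerChar.Torsion
import Groth.Agent.EulerChar.Deg
import Groth.Agent.Props.GenLocus
import Groth.Agent.PerfTri.Bounded
import Groth.Agent.CurveCoh.Euler
import Groth.Agent.CohDev.Coh
import Groth.Agent.Omega.Stalks

/-!
# Submodules of coherent modules with finite support
-/

universe u

open CategoryTheory CategoryTheory.Limits AlgebraicGeometry TopologicalSpace
open Groth.Agent.PullStalk.Sky Groth.Agent.PullStalk.Exact

set_option linter.style.haveILetI false

namespace Groth.Agent.ParShLib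

variable {X : Scheme.{u}} (k : Type u) [Field k] [X.Over (Spec (CommRingCat.of k))]
  [IsProper (X ↘ Spec (CommRingCat.of k))]

include k in
theorem isFlasque_of_subset {T Q : X.Modules} (hQ : Coh.IsCoh Q)
    (hsupp : topologicalKrullDim (CohB1.support Q) ≤ 0) (hTQ : CohB1.support T ⊆ CohB1.support Q) :
    TopCat.Sheaf.IsFlasque (X := X.toPresheafedSpace.carrier) (Coh.toAb T) := by
  constructor
  rintro ⟨U⟩ ⟨V⟩ i
  rw [AddCommGrpCat.epi_iff_surjective]
  intro s
  have hVU : V ≤ U := leOfHom i.unop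
  let S : Set X := CohB1.support T ∩ V
  have hScl : IsClosed S :=
    (EulerChar.isClosed_of_subset_support k hQ hsupp (Set.inter_subset_left.trans hTQ)).1
  let V' : X.Opens := U ⊓ ⟨Sᶜ, hScl.isOpen_compl⟩
  let cov : Bool → X.Opens := fun b => if b then V else V'
  let sf : ∀ b, Γ(T, cov b) := fun b => match b with
    | true => s
    | false => 0
  have hz : ∀ (O : X.Opens), O ≤ V → O ≤ V' → ∀ a b : Γ(T, O), a = b := by
    intro O h1 h2 a b
    refine TopCat.Presheaf.section_ext ⟨T.presheaf, T.isSheaf⟩ O a b fun x hx => ?_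
    haveI : Subsingleton (T.presheaf.stalk x) := not_not.1 fun h => (h2 hx).2 ⟨h, h1 hx⟩
    exact Subsingleton.elim _ _
  obtain ⟨t, ht, -⟩ := TopCat.Sheaf.existsUnique_gluing' (⟨T.presheaf, T.isSheaf⟩ : TopCat.Sheaf Ab X)
    cov U (fun b => homOfLE (by cases b; exacts [inf_le_left, hVU]))
    (fun x hx => Opens.mem_iSup.mpr (by
      by_cases h : x ∈ V
      · exact ⟨true, h⟩
      · exact ⟨false, hx, fun hF => h hF.2⟩)) sf (by
      intro a b
      cases a <;> cases b
      · rfl
      · exact hz (cov false ⊓ cov true) inf_le_right inf_le_left _ _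
      · exact hz (cov true ⊓ cov false) inf_le_left inf_le_right _ _
      · rfl)
  exact ⟨t, ht true⟩

/-- A space embedded in a finite-dimensional one is finite-dimensional. -/
theorem finite_of_injective {A B : Type u} [AddCommGroup A] [AddCommGroup B] [Module k A] [Module k B]
    (hB : Module.Finite k B) (f : A →ₗ[k] B) (hf : Function.Injective f) : Module.Finite k A :=
  haveI := hB
  Module.Finite.of_injective f hf

omit [IsProper (X ↘ Spec (CommRingCat.of k))] in
/-- `H⁰` is left exact. -/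
theorem injective_mapL_of_mono {T Q : X.Modules} (ι : T ⟶ Q) [Mono ι] :
    Function.Injective (CurveCoh.mapL k ι 0) := by
  intro x y h
  apply (Sheaf.H.equiv₀ (Coh.toAb T) isTerminalTop).injective
  have hinj : Function.Injective (ι.val.app (Opposite.op ⊤)).hom := QCoh.app_injective_of_mono ι ⊤
  apply hinj
  have e := fun z => Sheaf.H.equiv₀_naturality (f := (CurveCoh.toAbF X).map ι) isTerminalTop z
  exact (e x).trans ((congrArg _ h).trans (e y).symm)

omit [IsProper (X ↘ Spec (CommRingCat.of k))] in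
/-- A map onto a flasque module is epi if it is surjective on global sections. -/
theorem epi_of_surjective_H0 {A T : X.Modules} (φ : A ⟶ T)
    [TopCat.Sheaf.IsFlasque (X := X.toPresheafedSpace.carrier) (Coh.toAb T)]
    (hsurj : Function.Surjective (CurveCoh.mapL k φ 0)) : Epi φ := by
  refine Omega.Stalks.epi_of_stalk fun x t => ?_
  obtain ⟨U, hxU, m, rfl⟩ := exists_germM_eq T x t
  obtain ⟨σ, hσ⟩ := (AddCommGrpCat.epi_iff_surjective _).mp
    (TopCat.Presheaf.IsFlasque.epi (X := X.toPresheafedSpace.carrier) (F := (Coh.toAb T).obj)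
      (homOfLE (le_top : U ≤ ⊤)).op) m
  obtain ⟨τ, hτ⟩ := hsurj ((Sheaf.H.equiv₀ (Coh.toAb T) isTerminalTop).symm σ)
  refine ⟨germM _ ⊤ x trivial (Sheaf.H.equiv₀ (Coh.toAb A) isTerminalTop τ), ?_⟩
  refine (stalkLin_germ φ ⊤ x trivial _).trans ?_
  have h2 := (Sheaf.H.equiv₀_naturality (f := (CurveCoh.toAbF X).map φ) isTerminalTop τ).trans
    ((congrArg (Sheaf.H.equiv₀ (Coh.toAb T) isTerminalTop) hτ).trans
      ((Sheaf.H.equiv₀ (Coh.toAb T) isTerminalTop).apply_symm_apply σ))
  refine (congrArg (germM T ⊤ x trivial) h2).trans ?_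
  rw [← hσ]
  exact (T.presheaf.germ_res_apply (homOfLE (le_top : U ≤ ⊤)) x hxU σ).symm

omit [IsProper (X ↘ Spec (CommRingCat.of k))] in
/-- A global section is hit by the map it defines. -/
theorem mapL_homOfSec (T : X.Modules) (y : Coh.HH X T 0) :
    CurveCoh.mapL k (Props.GenLocus.homOfSec (Sheaf.H.equiv₀ (Coh.toAb T) isTerminalTop y)) 0
      ((Sheaf.H.equiv₀ (Coh.toAb (Coh.structureModule X)) isTerminalTop).symm (1 : Γ(X, ⊤))) = y := by
  refine (Sheaf.H.equiv₀_symm_naturality
    (f := (CurveCoh.toAbF X).map (Props.GenLocus.homOfSec (Sheaf.H.equiv₀ (Coh.toAb T) isTerminalTop y)))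
    isTerminalTop _).trans ?_
  rw [AddEquiv.symm_apply_eq]
  exact (Props.GenLocus.sec_homOfSec _ ⊤).trans (QCoh.res_self T _ _)

omit [IsProper (X ↘ Spec (CommRingCat.of k))] in
/-- A flasque module with finitely many sections is a quotient of a finite free module. -/
theorem exists_epi_free (T : X.Modules)
    [TopCat.Sheaf.IsFlasque (X := X.toPresheafedSpace.carrier) (Coh.toAb T)]
    [Module.Finite k (Coh.HH X T 0)] :
    ∃ (n : ℕ) (φ : FlatMod.freeMod X n ⟶ T), Epi φ := by
  obtain ⟨n, b, hb⟩ := Module.Finite.exists_fin (R := k) (M := Coh.HH X T 0)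
  let φ : FlatMod.freeMod X n ⟶ T :=
    Sigma.desc fun i => Props.GenLocus.homOfSec (Sheaf.H.equiv₀ (Coh.toAb T) isTerminalTop (b i))
  refine ⟨n, φ, epi_of_surjective_H0 k φ ?_⟩
  rw [← LinearMap.range_eq_top, eq_top_iff, ← hb, Submodule.span_le]
  rintro _ ⟨i, rfl⟩
  refine ⟨CurveCoh.mapL k (Sigma.ι (fun _ : Fin n => Coh.structureModule X) i) 0
    ((Sheaf.H.equiv₀ (Coh.toAb (Coh.structureModule X)) isTerminalTop).symm (1 : Γ(X, ⊤))), ?_⟩
  refine Eq.trans ?_ (mapL_homOfSec k T (b i))
  show Sheaf.H.map ((CurveCoh.toAbF X).map φ) 0 (Sheaf.H.map ((CurveCoh.toAbF X).map (Sigma.ι _ i)) 0 _) =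
    Sheaf.H.map ((CurveCoh.toAbF X).map _) 0 _
  rw [← Sheaf.H.map_comp_apply, ← Functor.map_comp, Sigma.ι_desc]

include k in
/-- A submodule of a coherent module with finite support is coherent. -/
theorem isCoh_of_mono_finite_support {T Q : X.Modules} (ι : T ⟶ Q) [Mono ι] (hQ : Coh.IsCoh Q)
    (hsupp : topologicalKrullDim (CohB1.support Q) ≤ 0) : Coh.IsCoh T := by
  haveI := EulerChar.isNoetherian k (X := X)
  haveI := isFlasque_of_subset k hQ hsupp (CohDev.support_subset_of_mono ι)
  have hfin := EulerChar.finite_HH (k := k) Q hQ 0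
  haveI : Module.Finite k (Coh.HH X T 0) :=
    finite_of_injective k hfin (CurveCoh.mapL k ι 0) (injective_mapL_of_mono k ι)
  obtain ⟨n, φ, hφ⟩ := exists_epi_free k T
  haveI := hφ
  let e' : Abelian.image (φ ≫ ι) ≅ Abelian.image ι :=
    kernel.mapIso (cokernel.π (φ ≫ ι)) (cokernel.π ι) (Iso.refl Q) (cokernelEpiComp φ ι) (by
      simp [cokernelEpiComp])
  exact CohDev.isCoh_of_iso (e' ≪≫ (asIso (Abelian.factorThruImage ι)).symm)
    (CohDev.isCoh_image (φ ≫ ι) (PerfTri.Bounded.isCoh_freeMod _) hQ.1)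

end Groth.Agent.ParShLib
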