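import Groth.Prelude.Def_ParBun
import Mathlib.MeasureTheory.Integral.Bochner.Set
import Mathlib.MeasureTheory.Measure.Lebesgue.Basic

/-!
# The real filtration of a parabolic structure and its integral
-/

universe v u

open CategoryTheory CategoryTheory.Limits MeasureTheory

set_option linter.style.haveILetI false

namespace Groth.Agent.ParShLib

variable {C : Type u} [Category.{v} C] {Z : C} (𝓔 : ParSh.Str Z)

/-- `i` is the index of the piece at the level `a`. -/
def IsIndex (a : ℝ) (i : Fin (𝓔.l + 2)) : Prop := ∀ j : Fin (𝓔.l + 1), (a ≤ 𝓔.wt j ↔ i ≤ j.castSucc)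

theorem exists_isIndex (a : ℝ) : ∃ i, IsIndex 𝓔 a i := by
  classical
  by_cases h : ∃ j, a ≤ 𝓔.wt j
  · let s := Finset.univ.filter fun j => a ≤ 𝓔.wt j
    have hs : s.Nonempty := let ⟨j, hj⟩ := h; ⟨j, by simp [s, hj]⟩
    refine ⟨(s.min' hs).castSucc, fun j => ⟨fun hj => Fin.castSucc_le_castSucc_iff.2
      (s.min'_le j (by simp [s, hj])), fun hj => ?_⟩⟩
    have hm : a ≤ 𝓔.wt (s.min' hs) := by simpa [s] using s.min'_mem hs
    exact hm.trans (𝓔.wt_strictMono.monotone (Fin.castSucc_le_castSucc_iff.1 hj))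
  · push Not at h
    exact ⟨Fin.last _, fun j => ⟨fun hj => absurd hj (not_le.2 (h j)),
      fun hj => absurd hj (not_le.2 (Fin.castSucc_lt_last j))⟩⟩

theorem isIndex_iff_lt {a : ℝ} {i : Fin (𝓔.l + 2)} (h : IsIndex 𝓔 a i) (j : Fin (𝓔.l + 1)) :
    𝓔.wt j < a ↔ j.castSucc < i := by
  rw [← not_le, ← not_le, h j]

variable [HasImages C] [HasBinaryCoproducts C] [HasInitial C] [InitialMonoClass C]

theorem at_eq_pieceX {a : ℝ} {i : Fin (𝓔.l + 2)} (h : IsIndex 𝓔 a i) : 𝓔.at a = 𝓔.pieceX i := by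
  induction i using Fin.lastCases with
  | last =>
    rw [ParSh.Str.pieceX_last]
    exact 𝓔.at_eq_bot fun j => (isIndex_iff_lt 𝓔 h j).2 (Fin.castSucc_lt_last j)
  | cast i =>
    rw [ParSh.Str.pieceX_castSucc]
    exact 𝓔.at_eq_piece i ((h i).2 le_rfl)
      fun j' hj' => (isIndex_iff_lt 𝓔 h j').2 (Fin.castSucc_lt_castSucc_iff.2 hj')

/-- The jump of `g` at the `j`-th step. -/
def jump (g : Fin (𝓔.l + 2) → ℝ) (j : Fin (𝓔.l + 1)) : ℝ := g j.castSucc - g j.succ

omit [HasImages C] [HasBinaryCoproducts C] [HasInitial C] [InitialMonoClass C] in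
theorem sum_jump {a : ℝ} {i : Fin (𝓔.l + 2)} (h : IsIndex 𝓔 a i) (g : Fin (𝓔.l + 2) → ℝ) :
    (∑ j, if 𝓔.wt j < a then jump 𝓔 g j else 0) = g 0 - g i := by
  have : ∀ i : Fin (𝓔.l + 2), (∑ j : Fin (𝓔.l + 1), if j.castSucc < i then jump 𝓔 g j else 0) = g 0 - g i := by
    intro i
    induction i using Fin.induction with
    | zero => simp
    | succ j ih =>
      have hsplit : ∀ j' : Fin (𝓔.l + 1), (if j'.castSucc < j.succ then jump 𝓔 g j' else 0) =
          (if j'.castSucc < j.castSucc then jump 𝓔 g j' else 0) + (if j' = j then jump 𝓔 g j' else 0) := by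
        intro j'
        simp only [Fin.castSucc_lt_succ_iff, Fin.castSucc_lt_castSucc_iff]
        rcases lt_trichotomy j' j with hlt | rfl | hgt
        · simp [hlt.le, hlt, hlt.ne]
        · simp
        · simp [hgt.not_ge, hgt.not_gt, hgt.ne']
      rw [Finset.sum_congr rfl fun j' _ => hsplit j', Finset.sum_add_distrib, ih, Finset.sum_ite_eq',
        if_pos (Finset.mem_univ j), jump]
      ring
  rw [← this i]
  exact Finset.sum_congr rfl fun j _ => by simp only [isIndex_iff_lt 𝓔 h j]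

theorem apply_at (f : C → ℝ) (a : ℝ) :
    f (𝓔.at a : C) = f (𝓔.pieceX 0 : C) -
      ∑ j, if 𝓔.wt j < a then jump 𝓔 (fun i => f (𝓔.pieceX i : C)) j else 0 := by
  obtain ⟨i, hi⟩ := exists_isIndex 𝓔 a
  rw [at_eq_pieceX 𝓔 hi, sum_jump 𝓔 hi]
  ring

theorem step_eq_indicator (j : Fin (𝓔.l + 1)) (c : ℝ) :
    (fun a : ℝ => if 𝓔.wt j < a then c else 0) = (Set.Ioi (𝓔.wt j)).indicator fun _ => c := by
  funext a
  simp [Set.indicator_apply]

theorem integrable_step (j : Fin (𝓔.l + 1)) (c : ℝ) :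
    Integrable (fun a : ℝ => if 𝓔.wt j < a then c else 0) (volume.restrict (Set.Ioc 0 1)) := by
  rw [step_eq_indicator]
  haveI : IsFiniteMeasure (volume.restrict (Set.Ioc (0 : ℝ) 1)) := ⟨by simp⟩
  exact (integrable_const c).indicator measurableSet_Ioi

theorem integral_step (j : Fin (𝓔.l + 1)) (c : ℝ) :
    ∫ a in Set.Ioc (0 : ℝ) 1, (if 𝓔.wt j < a then c else 0) = (1 - 𝓔.wt j) * c := by
  have h0 : 0 ≤ 𝓔.wt j := 𝓔.wt_nonneg.trans (𝓔.wt_strictMono.monotone (Fin.zero_le j))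
  have h1 : 𝓔.wt j ≤ 1 := ((𝓔.wt_strictMono.monotone (Fin.le_last j)).trans_lt 𝓔.wt_lt_one).le
  rw [step_eq_indicator, setIntegral_indicator measurableSet_Ioi,
    Set.Ioc_inter_Ioi, sup_eq_right.2 h0, setIntegral_const]
  simp [h1]

theorem integrableOn_at (f : C → ℝ) :
    IntegrableOn (fun a => f (𝓔.at a : C)) (Set.Ioc (0 : ℝ) 1) := by
  haveI : IsFiniteMeasure (volume.restrict (Set.Ioc (0 : ℝ) 1)) := ⟨by simp⟩
  simp only [apply_at 𝓔 f]
  exact (integrable_const _).sub (integrable_finsetSum _ fun j _ => integrable_step 𝓔 j _)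

/-- `parSum f = ∫₀¹ f(F_a) da`. -/
theorem integral_at (f : C → ℝ) : ∫ a in Set.Ioc (0 : ℝ) 1, f (𝓔.at a : C) = 𝓔.parSum f := by
  haveI : IsFiniteMeasure (volume.restrict (Set.Ioc (0 : ℝ) 1)) := ⟨by simp⟩
  simp only [apply_at 𝓔 f]
  rw [integral_sub (integrable_const _) (integrable_finsetSum _ fun j _ => integrable_step 𝓔 j _),
    integral_finsetSum _ fun j _ => integrable_step 𝓔 j _, setIntegral_const]
  simp only [integral_step]
  have htel : ∑ j, jump 𝓔 (fun i => f (𝓔.pieceX i : C)) j =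
      f (𝓔.pieceX 0 : C) - f (𝓔.bot : C) := by
    have h := sum_jump 𝓔 (a := 1) (i := Fin.last _) (fun j => ⟨fun hj => absurd hj (not_le.2
      ((𝓔.wt_strictMono.monotone (Fin.le_last j)).trans_lt 𝓔.wt_lt_one)), fun hj => absurd hj
      (not_le.2 (Fin.castSucc_lt_last j))⟩) (fun i => f (𝓔.pieceX i : C))
    rw [ParSh.Str.pieceX_last] at h
    rw [← h]
    exact Finset.sum_congr rfl fun j _ => (if_pos
      ((𝓔.wt_strictMono.monotone (Fin.le_last j)).trans_lt 𝓔.wt_lt_one)).symm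
  simp only [jump, ParSh.Str.pieceX_castSucc, Finset.sum_sub_distrib] at htel
  simp only [one_sub_mul, Finset.sum_sub_distrib, ParSh.Str.parSum, jump, ParSh.Str.pieceX_castSucc]
  rw [htel]
  simp
  ring

/-- Comparison of parabolic sums through the real filtrations. -/
theorem parSum_le_of_at_le {Z' : C} (𝓕 : ParSh.Str Z') (f : C → ℝ)
    (h : ∀ a : ℝ, 0 ≤ a → a ≤ 1 → f (𝓔.at a : C) ≤ f (𝓕.at a : C)) :
    𝓔.parSum f ≤ 𝓕.parSum f := by
  rw [← integral_at 𝓔 f, ← integral_at 𝓕 f]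
  exact setIntegral_mono_on (integrableOn_at 𝓔 f) (integrableOn_at 𝓕 f) measurableSet_Ioc
    fun a ha => h a ha.1.le ha.2

end Groth.Agent.ParShLib
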