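import Groth.Agent.GPLib.Basic
import Groth.Agent.ParShLib.Step
import Groth.Agent.ParShLib.Punct
import Groth.Prelude.Def_ParBun

/-!
# Parabolic bundles on curves
-/

universe u

open CategoryTheory CategoryTheory.Limits AlgebraicGeometry TopologicalSpace
open Groth.Agent.PullStalk.Sky Groth.Agent.PullStalk.Exact

set_option linter.style.haveILetI false

namespace Groth.Agent.ParShLib

attribute [local irreducible] Curv2.euler

variable {X : Scheme.{u}} (I : X.IdealSheafData)

theorem unitorR_natural {A B : X.Modules} (f : A ⟶ B) :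
    KoszTw.tensorMap f (𝟙 (Coh.structureModule X)) ≫ (SecTwist.unitorR B).hom =
      (SecTwist.unitorR A).hom ≫ f :=
  (congrArg (· ≫ _) (KoszTw.tensorBi_map_app f (Coh.structureModule X)).symm).trans
    ((KFlat.ProjFormula.unitRight X).hom.naturality f)

theorem twistMap_natural {A B : X.Modules} (f : A ⟶ B) :
    KoszTw.tensorMap f (𝟙 (ClSub.idealMod I)) ≫ ParSh.twistMap I B = ParSh.twistMap I A ≫ f := by
  simp only [ParSh.twistMap]
  rw [← Category.assoc, ← KoszTw.tensorMap_comp, Category.assoc, ← unitorR_natural, ← Category.assoc,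
    ← KoszTw.tensorMap_comp, Category.comp_id, Category.id_comp, Category.id_comp, Category.comp_id]

/-- A map dies in the quotient by its image. -/
theorem comp_coker_image {A B : X.Modules} (h : A ⟶ B) :
    h ≫ cokernel.π (imageSubobject h).arrow = 0 :=
  (congrArg (· ≫ cokernel.π (imageSubobject h).arrow) (imageSubobject_arrow_comp h).symm).trans
    ((Category.assoc _ _ _).trans ((congrArg _ (cokernel.condition _)).trans comp_zero))

/-- A map kills `I · E` iff it kills the multiplication map. -/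
theorem twistSub_arrow_comp {E W : X.Modules} (g : E ⟶ W) :
    (ParSh.twistSub I E).arrow ≫ g = 0 ↔ ParSh.twistMap I E ≫ g = 0 := by
  have hf : factorThruImageSubobject (ParSh.twistMap I E) ≫ (ParSh.twistSub I E).arrow =
      ParSh.twistMap I E := imageSubobject_arrow_comp (ParSh.twistMap I E)
  refine ⟨fun h => ?_, fun h => imageSubobject_arrow_comp_eq_zero h⟩
  exact (congrArg (· ≫ g) hf.symm).trans ((Category.assoc _ _ _).trans ((congrArg _ h).trans comp_zero))

theorem twistMap_comp_coker (E : X.Modules) :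
    ParSh.twistMap I E ≫ cokernel.π (ParSh.twistSub I E).arrow = 0 :=
  (twistSub_arrow_comp I _).1 (cokernel.condition _)

/-- The sequence `0 → E ⊗ I → E → E ⊗ O_D → 0` of a bundle. -/
theorem exists_shortExact_twist {n : ℕ} {E : X.Modules} (hE : FlatMod.IsFinLocFreeOfRank n E) :
    ∃ w : ParSh.twistMap I E ≫ GPLib.toRes I E = 0,
      (ShortComplex.mk (ParSh.twistMap I E) (GPLib.toRes I E) w).ShortExact := by
  let F := (DCoh.tensorBi (X := X)).obj E
  have hS := CohDev.tens_shortExact hE (EulerChar.shortExact_ideal I)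
  have hmap : ∀ {A B : X.Modules} (g : A ⟶ B), F.map g = KoszTw.tensorMap (𝟙 E) g := fun g => by
    unfold KoszTw.tensorMap
    rw [CategoryTheory.Functor.map_id, NatTrans.id_app]
    exact (Category.id_comp _).symm
  let e : CohB1.tensorMod E (Coh.structureModule X) ≅ E := SecTwist.unitorR E
  have key : ∀ {A B C B' : X.Modules} (f : A ⟶ B) (g : B ⟶ C) (w : f ≫ g = 0) (e : B ≅ B'),
      (ShortComplex.mk f g w).ShortExact →
      ∃ w' : (f ≫ e.hom) ≫ e.inv ≫ g = 0, (ShortComplex.mk (f ≫ e.hom) (e.inv ≫ g) w').ShortExact := by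
    intro A B C B' f g w e h
    refine ⟨by simp [w], ShortComplex.shortExact_of_iso (ShortComplex.isoMk (Iso.refl A) e (Iso.refl C)
      (by simp) (by simp)) h⟩
  have hS' : ∃ w0 : KoszTw.tensorMap (𝟙 E) (ClSub.idealModι I) ≫
      KoszTw.tensorMap (𝟙 E) (ClSub.toSubscheme I) = 0,
      (ShortComplex.mk _ _ w0).ShortExact := by
    have key2 : ∀ (u : F.obj (ClSub.idealMod I) ⟶ F.obj (Coh.structureModule X))
        (v : F.obj (Coh.structureModule X) ⟶ F.obj (ClSub.quotMod I)),
        F.map (ClSub.idealModι I) = u → F.map (ClSub.toSubscheme I) = v →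
        ∃ w : u ≫ v = 0, (ShortComplex.mk u v w).ShortExact := by
      rintro u v rfl rfl
      exact ⟨_, hS⟩
    exact key2 _ _ (hmap _) (hmap _)
  obtain ⟨w0, h0⟩ := hS'
  exact key _ _ w0 e h0

variable {E : X.Modules}

theorem factors_iff_comp_eq_zero {A : Type*} [Category A] [Abelian A] {Z W : A} (S : Subobject Z)
    (g : W ⟶ Z) : S.Factors g ↔ g ≫ cokernel.π S.arrow = 0 := by
  refine ⟨fun h => ?_, fun h => ?_⟩
  · rw [← S.factorThru_arrow g h, Category.assoc, cokernel.condition, comp_zero]
  · have := Subobject.factors_comp_arrow (P := S) (Abelian.monoLift S.arrow g h)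
    rwa [Abelian.monoLift_comp] at this

/-- Membership in `I · E` is vanishing in `E ⊗ O_D`. -/
theorem factors_twistSub_iff {n : ℕ} (hE : FlatMod.IsFinLocFreeOfRank n E) {W : X.Modules}
    (g : W ⟶ E) : (ParSh.twistSub I E).Factors g ↔ g ≫ GPLib.toRes I E = 0 := by
  obtain ⟨w, hS⟩ := exists_shortExact_twist I hE
  constructor
  · intro h
    have h0 : (ParSh.twistSub I E).arrow ≫ GPLib.toRes I E = 0 :=
      imageSubobject_arrow_comp_eq_zero w
    rw [← (ParSh.twistSub I E).factorThru_arrow g h, Category.assoc, h0, comp_zero]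
  · intro h
    obtain ⟨l, hl⟩ := KernelFork.IsLimit.lift' hS.fIsKernel g h
    rw [factors_iff_comp_eq_zero, ← hl]
    change (l ≫ ParSh.twistMap I E) ≫ _ = 0
    rw [Category.assoc, twistMap_comp_coker, comp_zero]

/-- The image of `I · E` under an epimorphism is `I` times the target. -/
theorem image_twistSub {V : X.Modules} (q : E ⟶ V) [Epi q] :
    imageSubobject ((ParSh.twistSub I E).arrow ≫ q) = ParSh.twistSub I V := by
  have hn := twistMap_natural I q
  have he : Epi (KoszTw.tensorMap q (𝟙 (ClSub.idealMod I))) := by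
    let F := (DCoh.tensorBi (X := X)).flip.obj (ClSub.idealMod I)
    haveI : PreservesColimitsOfSize.{0, 0} F :=
      KFlat.TensorLocFree.preservesColimits_tensorBi_flip_obj (ClSub.idealMod I)
    haveI : PreservesFiniteColimits F := PreservesColimitsOfSize.preservesFiniteColimits F
    have h : Epi (F.map q) := inferInstance
    exact (KoszTw.tensorBi_map_app q _) ▸ h
  haveI := he
  apply le_antisymm
  · refine imageSubobject_le _ (Abelian.monoLift (ParSh.twistSub I V).arrow
      ((ParSh.twistSub I E).arrow ≫ q) ?_) (Abelian.monoLift_comp _ _ _)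
    rw [Category.assoc, twistSub_arrow_comp, ← Category.assoc, ← hn, Category.assoc,
      twistMap_comp_coker, comp_zero]
  · refine imageSubobject_le _ (Abelian.monoLift (imageSubobject ((ParSh.twistSub I E).arrow ≫ q)).arrow
      (ParSh.twistMap I V) ?_) (Abelian.monoLift_comp _ _ _)
    rw [← cancel_epi (KoszTw.tensorMap q (𝟙 (ClSub.idealMod I))), comp_zero, ← Category.assoc, hn,
      Category.assoc, ← twistSub_arrow_comp, ← Category.assoc]
    exact comp_coker_image _

variable (k : Type u) [Field k] [X.Over (Spec (CommRingCat.of k))]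
  [IsProper (X ↘ Spec (CommRingCat.of k))] (hdim : topologicalKrullDim X = 1)
  (hD : FGA.IsEffCartier I)

include hdim hD k in
/-- A subobject containing `I · E` is coherent. -/
theorem isCoh_of_twistSub_le {n : ℕ} (hE : FlatMod.IsFinLocFreeOfRank n E) {S : Subobject E}
    (hS : ParSh.twistSub I E ≤ S) : Coh.IsCoh (S : X.Modules) := by
  haveI := EulerChar.isNoetherian k (X := X)
  obtain ⟨w, hX⟩ := exists_shortExact_twist I hE
  have hEc := VBLib.isCoh_of_ofRank hE
  have hQ := GPLib.isCoh_resD I k hE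
  have hsupp := GPLib.dim_support_le_of_subset I k hdim hD (GPLib.support_resD I E)
  -- the quotient of `E` by `S` is a quotient of `E ⊗ O_D`
  have hkill : ParSh.twistMap I E ≫ cokernel.π S.arrow = 0 := by
    have h0 := (factors_iff_comp_eq_zero S (ParSh.twistSub I E).arrow).1
      (Subobject.factors_of_le _ hS (Subobject.factors_self _))
    exact (congrArg (· ≫ cokernel.π S.arrow) (imageSubobject_arrow_comp (ParSh.twistMap I E)).symm).trans
      ((Category.assoc _ _ _).trans ((congrArg _ h0).trans comp_zero))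
  obtain ⟨g, hg⟩ := CokernelCofork.IsColimit.desc' hX.gIsCokernel (cokernel.π S.arrow) hkill
  change GPLib.toRes I E ≫ g = cokernel.π S.arrow at hg
  haveI : Epi (GPLib.toRes I E ≫ g) := by rw [hg]; infer_instance
  haveI : Epi g := epi_of_epi (GPLib.toRes I E) g
  have hK : Coh.IsCoh (kernel g) := isCoh_of_mono_finite_support k (kernel.ι g) hQ hsupp
  let T := ShortComplex.mk (kernel.ι g) g (kernel.condition g)
  have hT : T.ShortExact := { exact := ShortComplex.exact_of_f_is_kernel _ (kernelIsKernel g) }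
  have hC : Coh.IsCoh (cokernel S.arrow) :=
    CohDev.isCoh_of_iso ((cokernelIsCokernel (kernel.ι g)).coconePointUniqueUpToIso hT.gIsCokernel)
      (VBLib.isCoh_cokernel (kernel.ι g) hK hQ)
  exact CohDev.isCoh_of_iso (asIso (Abelian.factorThruImage S.arrow)).symm
    (VBLib.isCoh_kernel (cokernel.π S.arrow) hEc hC)

include k in
theorem isCoh_image_subobject [IsIntegral X] {V : X.Modules} {S : Subobject E} (q : E ⟶ V)
    (hS : Coh.IsCoh (S : X.Modules)) (hV : Coh.IsCoh V) :
    Coh.IsCoh (imageSubobject (S.arrow ≫ q) : X.Modules) :=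
  haveI := EulerChar.isNoetherian k (X := X)
  CohDev.isCoh_of_iso (imageSubobjectIso _ ≪≫ (Abelian.imageIsoImage _).symm).symm
    (VBLib.isCoh_image (S.arrow ≫ q) hS hV)

variable [IsIntegral X] [Smooth (X ↘ Spec (CommRingCat.of k))]

include hdim hD k in
/-- `χ(E) - χ(I · E) = n · deg D`. -/
theorem euler_twistSub {n : ℕ} (hE : FlatMod.IsFinLocFreeOfRank n E) :
    Curv2.euler k X E - Curv2.euler k X (ParSh.twistSub I E : X.Modules) =
      n * Curv2.euler k X (ClSub.quotMod I) := by
  haveI := EulerChar.isNoetherian k (X := X)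
  obtain ⟨w, hS⟩ := exists_shortExact_twist I hE
  haveI : Mono (ParSh.twistMap I E) := hS.mono_f
  have hT := isCoh_of_twistSub_le I k hdim hD hE (S := ParSh.twistSub I E) le_rfl
  let e : (ParSh.twistSub I E : X.Modules) ≅ CohB1.tensorMod E (ClSub.idealMod I) :=
    imageSubobjectIso _ ≪≫ imageMonoIsoSource _
  have h := (VBLib.goodCurve_of_smooth (k := k) (X := X) hdim).euler_add hS
    (CohDev.isCoh_of_iso e hT) (VBLib.isCoh_of_ofRank hE) (GPLib.isCoh_resD I k hE)
  rw [← GPLib.euler_resD I k hdim hD hE]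
  rw [EulerChar.euler_iso k e]
  simp only at h
  omega

include hdim hD k in
/-- The generic rank of a subobject containing `I · E`. -/
theorem rk_of_twistSub_le {n : ℕ} (hE : FlatMod.IsFinLocFreeOfRank n E) {S : Subobject E}
    (hS : ParSh.twistSub I E ≤ S) : VBLib.rk (S : X.Modules) = n := by
  haveI := EulerChar.isNoetherian k (X := X)
  obtain ⟨w, hX⟩ := exists_shortExact_twist I hE
  have hEc := VBLib.isCoh_of_ofRank hE
  have hSc := isCoh_of_twistSub_le I k hdim hD hE hS
  have hη : genericPoint X ∉ (I.support : Set X) :=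
    IdealSh.Regular.not_mem_support_of_maximal hD _ fun y hy =>
      ((genericPoint_specializes y).antisymm hy).eq.symm
  have h0 : VBLib.rk (ParSh.resD I E) = 0 := by
    rw [VBLib.rk]
    haveI : Subsingleton ((ParSh.resD I E).presheaf.stalk (genericPoint X)) :=
      not_not.1 fun h => hη (GPLib.support_resD I E h)
    exact Module.finrank_zero_of_subsingleton
  have h1 := VBLib.rk_add hX hEc
  simp only at h1
  haveI : Mono (ParSh.twistMap I E) := hX.mono_f
  let e : (ParSh.twistSub I E : X.Modules) ≅ CohB1.tensorMod E (ClSub.idealMod I) :=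
    imageSubobjectIso _ ≪≫ imageMonoIsoSource _
  have h2 := VBLib.rk_le_of_mono (e.inv ≫ Subobject.ofLE _ _ hS) hSc
  have h3 := VBLib.rk_le_of_mono S.arrow hEc
  rw [VBLib.rk_eq hE] at h1 h3
  omega

include hdim hD k in
/-- For a saturated subbundle, `I · V' = V' ∩ I · F`. -/
theorem pullback_twistSub {F V' : X.Modules} {s r : ℕ} (hF : FlatMod.IsFinLocFreeOfRank s F)
    (hV : FlatMod.IsFinLocFreeOfRank r V') (ι : V' ⟶ F) [Mono ι]
    (hsat : FlatMod.IsFinLocFree (cokernel ι)) :
    (Subobject.pullback ι).obj (ParSh.twistSub I F) = ParSh.twistSub I V' := by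
  haveI := EulerChar.isNoetherian k (X := X)
  have hX := VBLib.goodCurve_of_smooth (k := k) (X := X) hdim
  let S := ShortComplex.mk ι (cokernel.π ι) (cokernel.condition ι)
  have hS : S.ShortExact := { exact := S.exact_of_g_is_cokernel (cokernelIsCokernel ι) }
  have hC := VBLib.ofRank_rk hsat
  have hrk : s = r + VBLib.rk (cokernel ι) := by
    have h := VBLib.rk_add hS (VBLib.isCoh_of_ofRank hF)
    rwa [VBLib.rk_eq hV, VBLib.rk_eq hF] at h
  obtain ⟨w, hex⟩ := GPLib.exact_resDMap I hS
  let φ := ParSh.resDMap I ι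
  let ψ := ParSh.resDMap I (cokernel.π ι)
  haveI : Epi ψ := GPLib.epi_resDMap I (cokernel.π ι) hC
  have hA := GPLib.isCoh_resD I k hV
  have hB := GPLib.isCoh_resD I k hF
  have hQ := GPLib.isCoh_resD I k hC
  haveI : Epi (kernel.lift ψ φ w) := hex.epi_kernelLift
  let T₁ := ShortComplex.mk (kernel.ι ψ) ψ (kernel.condition ψ)
  have hT₁ : T₁.ShortExact := { exact := ShortComplex.exact_of_f_is_kernel _ (kernelIsKernel ψ) }
  let T₂ := ShortComplex.mk (kernel.ι (kernel.lift ψ φ w)) (kernel.lift ψ φ w) (kernel.condition _)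
  have hT₂ : T₂.ShortExact := { exact := ShortComplex.exact_of_f_is_kernel _ (kernelIsKernel _) }
  have hP := VBLib.isCoh_kernel ψ hB hQ
  have hK := VBLib.isCoh_kernel (kernel.lift ψ φ w) hA hP
  have e1 : Curv2.euler k X (ParSh.resD I F) =
      Curv2.euler k X (kernel ψ) + Curv2.euler k X (ParSh.resD I (cokernel ι)) :=
    hX.euler_add hT₁ hP hB hQ
  have e2 : Curv2.euler k X (ParSh.resD I V') =
      Curv2.euler k X (kernel (kernel.lift ψ φ w)) + Curv2.euler k X (kernel ψ) :=
    hX.euler_add hT₂ hK hA hP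
  rw [GPLib.euler_resD I k hdim hD hF, GPLib.euler_resD I k hdim hD hC, hrk] at e1
  rw [GPLib.euler_resD I k hdim hD hV] at e2
  push_cast at e1
  have hz : IsZero (kernel (kernel.lift ψ φ w)) := by
    refine EulerChar.isZero_of_euler_eq_zero k hK (GPLib.dim_support_le_of_subset I k hdim hD
      ((CohDev.support_subset_of_mono (kernel.ι _)).trans (GPLib.support_resD I V'))) ?_
    linarith
  haveI : Mono (kernel.lift ψ φ w) := Preadditive.mono_of_isZero_kernel _ hz
  haveI : Mono φ := by
    rw [← kernel.lift_ι ψ φ w]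
    exact mono_comp _ _
  have key : ∀ {W : X.Modules} (g : W ⟶ V'),
      ((Subobject.pullback ι).obj (ParSh.twistSub I F)).Factors g ↔ (ParSh.twistSub I V').Factors g := by
    intro W g
    rw [CategoryTheory.Limits.pullback_factors_iff, factors_twistSub_iff I hF, factors_twistSub_iff I hV,
      Category.assoc, GPLib.toRes_natural, ← Category.assoc]
    exact ⟨fun h => zero_of_comp_mono φ h, fun h => (congrArg (· ≫ φ) h).trans zero_comp⟩
  exact le_antisymm (Subobject.le_of_factors ((key _).1 (Subobject.factors_self _)))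
    (Subobject.le_of_factors ((key _).2 (Subobject.factors_self _)))

omit [IsProper (X ↘ Spec (CommRingCat.of k))] [IsIntegral X] [Smooth (X ↘ Spec (CommRingCat.of k))] in
/-- The parabolic degree through the parabolic sum. -/
theorem parDeg_eq (𝓔 : ParSh.Str E) (r : ℕ) :
    𝓔.parDeg k X r = 𝓔.parSum (fun G => (Curv2.euler k X G : ℝ)) -
      r * (Curv2.euler k X (Coh.structureModule X) : ℝ) +
      ((Curv2.euler k X E : ℝ) - (Curv2.euler k X (𝓔.bot : X.Modules) : ℝ)) := by
  simp only [ParSh.Str.parDeg, ParSh.Str.parWt, ParSh.Str.parSum, Curv2.deg]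
  push_cast
  ring

theorem twistSub_le_pieceX {𝓔 : ParSh.Str E} (h : 𝓔.Along I) (i : Fin (𝓔.l + 2)) :
    ParSh.twistSub I E ≤ 𝓔.pieceX i := by
  have hb : 𝓔.bot = ParSh.twistSub I E := h
  rw [← hb]
  exact 𝓔.bot_le_pieceX i

theorem along_coinduced {V : X.Modules} {𝓔 : ParSh.Str E} (h : 𝓔.Along I) (q : E ⟶ V) [Epi q] :
    (𝓔.coinduced q).Along I := by
  have hb : 𝓔.bot = ParSh.twistSub I E := h
  show imageSubobject (𝓔.bot.arrow ≫ q) = ParSh.twistSub I V
  rw [hb]
  exact image_twistSub I q

include hdim hD k in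
theorem along_induced {F V' : X.Modules} {s r : ℕ} (hF : FlatMod.IsFinLocFreeOfRank s F)
    (hV : FlatMod.IsFinLocFreeOfRank r V') (ι : V' ⟶ F) [Mono ι]
    (hsat : FlatMod.IsFinLocFree (cokernel ι)) {𝓕 : ParSh.Str F} (h : 𝓕.Along I) :
    (𝓕.induced ι).Along I := by
  have hb : 𝓕.bot = ParSh.twistSub I F := h
  show (Subobject.pullback ι).obj 𝓕.bot = ParSh.twistSub I V'
  rw [hb]
  exact pullback_twistSub I k hdim hD hF hV ι hsat

include hdim hD k in
/-- The parabolic degree of a structure along `D` in terms of the parabolic sum. -/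
theorem parDeg_eq_of_along {r : ℕ} (hE : FlatMod.IsFinLocFreeOfRank r E) {𝓔 : ParSh.Str E}
    (h : 𝓔.Along I) :
    𝓔.parDeg k X r = 𝓔.parSum (fun G => (Curv2.euler k X G : ℝ)) -
      r * (Curv2.euler k X (Coh.structureModule X) : ℝ) +
      r * (Curv2.euler k X (ClSub.quotMod I) : ℝ) := by
  have hb : 𝓔.bot = ParSh.twistSub I E := h
  rw [parDeg_eq, hb]
  have h1 := euler_twistSub I k hdim hD hE
  have h2 : ((Curv2.euler k X E : ℝ) - (Curv2.euler k X (ParSh.twistSub I E : X.Modules) : ℝ)) =
      r * (Curv2.euler k X (ClSub.quotMod I) : ℝ) := by exact_mod_cast h1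
  rw [h2]

end Groth.Agent.ParShLib
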