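import Groth.Agent.ShStabLib.Ell.Basic
import Groth.Agent.EulerChar.Cartier
import Groth.Agent.KFlat.StalkFlat
import Groth.Prelude.Def_W4swparbununimodPar

/-!
# Weighted filtrations of coherent modules and their Hilbert polynomials

Abel summation for weighted sums over the pieces, the support of `E / IE`, and the quotients by the pieces.
-/

universe u

open CategoryTheory CategoryTheory.Limits AlgebraicGeometry TopologicalSpace
open Groth.Agent.HilbPolyX Groth.Agent.ShStabLib Groth.Agent.PullStalk.Exact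

set_option linter.style.haveILetI false

noncomputable section

namespace Groth.Agent.ParShLib

/-! ### Weights -/

/-- Abel summation. -/
theorem abel {n : ℕ} {R : Type*} [CommRing R] (v g : Fin (n + 2) → R) (hv : v (Fin.last _) = 1) :
    g (Fin.last _) + ∑ j : Fin (n + 1), v j.castSucc * (g j.castSucc - g j.succ) =
      g 0 - ∑ j : Fin (n + 1), (v j.succ - v j.castSucc) * (g 0 - g j.succ) := by
  have h1 := Fin.sum_univ_castSucc (f := fun i => v i * g i)
  have h2 := Fin.sum_univ_succ (f := fun i => v i * g i)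
  have h3 := Fin.sum_univ_castSucc (f := v)
  have h4 := Fin.sum_univ_succ (f := v)
  rw [hv] at h1 h3
  simp only [mul_sub, sub_mul, Finset.sum_sub_distrib, ← Finset.sum_mul]
  linear_combination (h2 - h1) + g 0 * (h3 - h4)

section Str

variable {C : Type*} [Category C] {Z : C} (𝓔 : ParSh.Str Z)

theorem wtX_zero : 𝓔.wtX 0 = 𝓔.wt 0 := 𝓔.wtX_castSucc 0

theorem pieceX_zero : 𝓔.pieceX 0 = ⊤ := (𝓔.pieceX_castSucc 0).trans 𝓔.piece_zero

theorem wtX_step_pos (j : Fin (𝓔.l + 1)) : 0 < 𝓔.wtX j.succ - 𝓔.wtX j.castSucc := by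
  rw [sub_pos, 𝓔.wtX_castSucc]
  induction j using Fin.lastCases with
  | last => rw [Fin.succ_last, 𝓔.wtX_last]; exact 𝓔.wt_lt_one
  | cast j =>
    rw [Fin.succ_castSucc, 𝓔.wtX_castSucc]
    exact 𝓔.wt_strictMono Fin.castSucc_lt_succ

theorem sum_step : ∑ j : Fin (𝓔.l + 1), (𝓔.wtX j.succ - 𝓔.wtX j.castSucc) = 1 - 𝓔.wt 0 := by
  have h3 := Fin.sum_univ_castSucc (f := 𝓔.wtX)
  have h4 := Fin.sum_univ_succ (f := 𝓔.wtX)
  rw [𝓔.wtX_last] at h3
  rw [wtX_zero] at h4
  rw [Finset.sum_sub_distrib]
  linarith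

theorem pieceX_anti : Antitone 𝓔.pieceX := by
  intro i j h
  induction j using Fin.lastCases with
  | last => rw [𝓔.pieceX_last]; exact 𝓔.bot_le_pieceX i
  | cast j =>
    induction i using Fin.lastCases with
    | last => exact absurd h (by simp)
    | cast i =>
      rw [𝓔.pieceX_castSucc, 𝓔.pieceX_castSucc]
      exact 𝓔.piece_anti (by simpa using h)

/-- The weighted sum, in terms of differences with the top. -/
theorem parSum_eq (f : C → ℝ) :
    𝓔.parSum f = f (𝓔.pieceX 0 : C) - ∑ j : Fin (𝓔.l + 1), (𝓔.wtX j.succ - 𝓔.wtX j.castSucc) *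
      (f (𝓔.pieceX 0 : C) - f (𝓔.pieceX j.succ : C)) := by
  rw [← abel 𝓔.wtX (fun i => f (𝓔.pieceX i : C)) 𝓔.wtX_last, ParSh.Str.parSum, 𝓔.pieceX_last]
  simp only [𝓔.wtX_castSucc, 𝓔.pieceX_castSucc]

open W4swparbununimod in
theorem parPoly_eq (PX : Fin (𝓔.l + 2) → Polynomial ℚ) :
    parPoly 𝓔 PX = rpoly (PX 0) - ∑ j : Fin (𝓔.l + 1),
      Polynomial.C (𝓔.wtX j.succ - 𝓔.wtX j.castSucc) * (rpoly (PX 0) - rpoly (PX j.succ)) := by
  simp only [map_sub]
  rw [← abel (fun i => Polynomial.C (𝓔.wtX i)) (fun i => rpoly (PX i))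
    (by rw [𝓔.wtX_last, map_one]), parPoly]
  simp only [𝓔.wtX_castSucc]

theorem induced_pieceX [HasPullbacks C] {W : C} (ι : W ⟶ Z) (j : Fin (𝓔.l + 2)) :
    (𝓔.induced ι).pieceX j = (Subobject.pullback ι).obj (𝓔.pieceX j) := by
  induction j using Fin.lastCases with
  | last =>
    rw [show (𝓔.induced ι).pieceX (Fin.last (𝓔.l + 1)) = (𝓔.induced ι).bot from
      (𝓔.induced ι).pieceX_last, 𝓔.pieceX_last]
    rfl
  | cast j =>
    rw [show (𝓔.induced ι).pieceX j.castSucc = (𝓔.induced ι).piece j from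
      (𝓔.induced ι).pieceX_castSucc j, 𝓔.pieceX_castSucc]
    rfl

end Str

/-- The pullback of a subobject as a kernel. -/
theorem pullback_eq_mk {A : Type*} [Category A] [Abelian A] {W Z : A} (ι : W ⟶ Z) (S : Subobject Z) :
    (Subobject.pullback ι).obj S = Subobject.mk (kernel.ι (ι ≫ cokernel.π S.arrow)) := by
  refine le_antisymm (Subobject.le_mk_of_comm (kernel.lift _ ((Subobject.pullback ι).obj S).arrow ?_)
    (kernel.lift_ι _ _ _)) ?_
  · rw [← Category.assoc, ← (Subobject.isPullback ι S).w, Category.assoc, cokernel.condition,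
      comp_zero]
  · refine Subobject.mk_le_of_comm
      ((Subobject.isPullback ι S).lift (Abelian.monoLift S.arrow (kernel.ι _ ≫ ι)
        (by rw [Category.assoc, kernel.condition])) (kernel.ι _) (Abelian.monoLift_comp _ _ _)) ?_
    exact (Subobject.isPullback ι S).lift_snd _ _ _

variable {X : Scheme.{u}}

/-- `E / IE` is supported on the divisor. -/
theorem support_coker_twistSub (I : X.IdealSheafData) (E : X.Modules) :
    CohB1.support (cokernel (ParSh.twistSub I E).arrow) ⊆ (I.support : Set X) := by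
  intro x hx
  by_contra hD
  refine hx (subsingleton_of_forall_eq 0 fun t => ?_)
  have hq : Subsingleton ((ClSub.quotMod I).presheaf.stalk x) :=
    not_not.1 fun h => hD (EulerChar.support_quotMod_subset I h)
  have hι : Function.Surjective (stalkLin (ClSub.idealModι I) x) := fun c =>
    ((stalk_exact (EulerChar.shortExact_ideal I) x).2.1 c).1 (@Subsingleton.elim _ hq _ _)
  have hT : Function.Surjective
      (stalkLin (KoszTw.tensorMap (𝟙 E) (ClSub.idealModι I)) x) := fun c => by
    have hid : Function.Surjective (stalkLin (𝟙 E) x) := fun a =>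
      ⟨a, CohDev.stalkLin_id_apply x a⟩
    obtain ⟨s, hs⟩ := TensorProduct.map_surjective hid hι
      (KFlat.StalkTensor.stalkTensorEquiv E (Coh.structureModule X) x c)
    refine ⟨(KFlat.StalkTensor.stalkTensorEquiv E (ClSub.idealMod I) x).symm s, ?_⟩
    apply (KFlat.StalkTensor.stalkTensorEquiv E (Coh.structureModule X) x).injective
    refine (LinearMap.congr_fun
      (KFlat.StalkTensor.stalkTensor_natural x (𝟙 E) (ClSub.idealModι I)) _).trans ?_
    refine Eq.trans ?_ hs
    exact congrArg _ ((KFlat.StalkTensor.stalkTensorEquiv E (ClSub.idealMod I) x).apply_symm_apply s)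
  have hM : Function.Surjective (stalkLin (ParSh.twistMap I E) x) := fun c => by
    obtain ⟨b, hb⟩ := stalk_surjective (SecTwist.unitorR E).hom x c
    obtain ⟨a, ha⟩ := hT b
    refine ⟨a, ?_⟩
    show stalkLin (KoszTw.tensorMap (𝟙 E) (ClSub.idealModι I) ≫ (SecTwist.unitorR E).hom) x a = c
    rw [CohDev.stalkLin_comp_apply, ha]
    exact hb
  obtain ⟨b, rfl⟩ := stalk_surjective (cokernel.π (ParSh.twistSub I E).arrow) x t
  obtain ⟨a, ha⟩ := hM b
  rw [← ha, ← CohDev.stalkLin_comp_apply]
  have h0 : ParSh.twistMap I E ≫ cokernel.π (ParSh.twistSub I E).arrow = 0 :=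
    (congrArg (· ≫ cokernel.π (imageSubobject (ParSh.twistMap I E)).arrow)
        (imageSubobject_arrow_comp (ParSh.twistMap I E)).symm).trans
        ((Category.assoc _ _ _).trans ((congrArg _ (cokernel.condition _)).trans comp_zero))
  rw [h0]
  exact CohDev.stalkLin_zero_apply x a

variable {E : X.Modules}

/-- A quotient by a piece is supported in `Supp E ∩ D`. -/
theorem support_coker_piece {I : X.IdealSheafData} {𝓔 : ParSh.Str E} (h : 𝓔.Along I)
    (j : Fin (𝓔.l + 2)) :
    CohB1.support (cokernel (𝓔.pieceX j).arrow) ⊆ CohB1.support E ∩ (I.support : Set X) := by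
  refine Set.subset_inter (CohDev.support_subset_of_epi (cokernel.π _)) ?_
  have hle : ParSh.twistSub I E ≤ 𝓔.pieceX j := h ▸ 𝓔.bot_le_pieceX j
  let π : cokernel (ParSh.twistSub I E).arrow ⟶ cokernel (𝓔.pieceX j).arrow :=
    cokernel.map _ _ (Subobject.ofLE _ _ hle) (𝟙 _) (by simp)
  haveI : Epi π := by
    refine epi_of_epi_fac (f := cokernel.π (ParSh.twistSub I E).arrow)
      (h := cokernel.π (𝓔.pieceX j).arrow) ?_
    rw [cokernel.π_desc, Category.id_comp]
  exact (CohDev.support_subset_of_epi π).trans (support_coker_twistSub I E)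

theorem dim_coker_piece_lt {I : X.IdealSheafData} {𝓔 : ParSh.Str E} (h : 𝓔.Along I) {d : ℕ}
    (hsupp : topologicalKrullDim ↥(CohB1.support E ∩ (I.support : Set X)) < (d : WithBot ℕ∞))
    (j : Fin (𝓔.l + 2)) :
    topologicalKrullDim ↥(CohB1.support (cokernel (𝓔.pieceX j).arrow)) < (d : WithBot ℕ∞) :=
  ((Topology.IsEmbedding.inclusion
    (support_coker_piece h j)).isInducing.topologicalKrullDim_le).trans_lt hsupp

/-- The quotient of a submodule by its induced piece sits in the quotient by the piece. -/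
theorem exists_mono_coker_induced {W : X.Modules} (ι : W ⟶ E) (S : Subobject E) :
    ∃ κ : cokernel ((Subobject.pullback ι).obj S).arrow ⟶ cokernel S.arrow, Mono κ := by
  refine ⟨cokernel.map _ _ (Subobject.pullbackπ ι S) ι (Subobject.isPullback ι S).w.symm, ?_⟩
  refine Preadditive.mono_of_cancel_zero _ fun {Y} y hy => ?_
  obtain ⟨Y', p, hp, a, ha⟩ := surjective_up_to_refinements_of_epi
    (cokernel.π ((Subobject.pullback ι).obj S).arrow) y
  have h1 : a ≫ ι ≫ cokernel.π S.arrow = 0 := by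
    have h0 := congrArg (p ≫ ·) hy
    simp only [comp_zero, ← Category.assoc, ha] at h0
    simpa using h0
  let b : Y' ⟶ (((Subobject.pullback ι).obj S : Subobject W) : X.Modules) :=
    (Subobject.isPullback ι S).lift
      (Abelian.monoLift S.arrow (a ≫ ι) (by simpa using h1)) a (Abelian.monoLift_comp _ _ _)
  have hb : b ≫ ((Subobject.pullback ι).obj S).arrow = a := (Subobject.isPullback ι S).lift_snd _ _ _
  rw [← cancel_epi p, comp_zero, ha, ← hb, Category.assoc, cokernel.condition, comp_zero]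

variable (k : Type u) [Field k] [X.Over (Spec (CommRingCat.of k))]
  [IsProper (X ↘ Spec (CommRingCat.of k))]

include k in
theorem isCoh_pullback {W : X.Modules} (ι : W ⟶ E) (hW : Coh.IsCoh W) (hE : Coh.IsCoh E)
    {S : Subobject E} (hS : IsCohSub S) : IsCohSub ((Subobject.pullback ι).obj S) := by
  rw [pullback_eq_mk]
  exact isCohSub_mk _ (HilbPolyX.isCoh_of_kernel k _ hW
    (HilbPolyX.isCoh_of_monoCokernel S.arrow hS hE))

variable {L : X.Modules} (hL : CohB1.IsAmple L)

include hL in
theorem hilb_piece_zero (hE : Coh.IsCoh E) (𝓔 : ParSh.Str E) :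
    hilb k L ((𝓔.pieceX 0 : Subobject E) : X.Modules) = hilb k L E := by
  rw [pieceX_zero]
  exact hs_top k hL hE

include hL in
/-- The Hilbert polynomial of a quotient by a subobject. -/
theorem hilb_coker_arrow (hE : Coh.IsCoh E) {S : Subobject E} (hS : IsCohSub S) :
    hilb k L (cokernel S.arrow) = hilb k L E - hilb k L (S : X.Modules) :=
  eq_sub_of_add_eq' (hilb_mono k hL S.arrow hS hE).symm

include hL in
open W4swparbununimod in
/-- The parabolic polynomial in terms of the quotients by the pieces. -/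
theorem parPoly_eq_sub (hE : Coh.IsCoh E) {𝓔 : ParSh.Str E}
    (hcoh : ∀ j, Coh.IsCoh ((𝓔.pieceX j : Subobject E) : X.Modules))
    {PX : Fin (𝓔.l + 2) → Polynomial ℚ}
    (hPX : ∀ j, ShStab.IsHilbPoly k X L ((𝓔.pieceX j : Subobject E) : X.Modules) (PX j)) :
    parPoly 𝓔 PX = rpoly (hilb k L E) - ∑ j : Fin (𝓔.l + 1),
      Polynomial.C (𝓔.wtX j.succ - 𝓔.wtX j.castSucc) *
        rpoly (hilb k L (cokernel (𝓔.pieceX j.succ).arrow)) := by
  have h : ∀ j, PX j = hilb k L ((𝓔.pieceX j : Subobject E) : X.Modules) := fun j =>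
    eq_hilb k hL (hcoh j) (hPX j)
  rw [parPoly_eq, h 0, hilb_piece_zero k hL hE]
  congr 1
  refine Finset.sum_congr rfl fun j _ => ?_
  rw [h, hilb_coker_arrow k hL hE (hcoh _), rpoly, rpoly, rpoly, Polynomial.map_sub]

end Groth.Agent.ParShLib
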