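import Groth.Agent.ParShLib.Curve
import Groth.Agent.ParShLib.Basic

/-!
# Images of parabolic homomorphisms on curves
-/

universe u

open CategoryTheory CategoryTheory.Limits AlgebraicGeometry TopologicalSpace

set_option linter.style.haveILetI false

namespace Groth.Agent.ParShLib

attribute [local irreducible] Curv2.euler

variable {X : Scheme.{u}}

theorem coinduced_pieceX {E V : X.Modules} (𝓔 : ParSh.Str E) (q : E ⟶ V) [Epi q] (i : Fin (𝓔.l + 2)) :
    (𝓔.coinduced q).pieceX i = imageSubobject ((𝓔.pieceX i).arrow ≫ q) := by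
  induction i using Fin.lastCases with
  | last =>
    rw [show (𝓔.coinduced q).pieceX (Fin.last (𝓔.l + 1)) = (𝓔.coinduced q).bot from
      (𝓔.coinduced q).pieceX_last, 𝓔.pieceX_last]
    rfl
  | cast j =>
    rw [show (𝓔.coinduced q).pieceX j.castSucc = (𝓔.coinduced q).piece j from
      (𝓔.coinduced q).pieceX_castSucc j, 𝓔.pieceX_castSucc]
    rfl

/-- A subobject meets the kernel and maps onto its image. -/
theorem exists_shortExact_pullback_image {K E V : X.Modules} {j : K ⟶ E} {q : E ⟶ V} (w : j ≫ q = 0)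
    (h : (ShortComplex.mk j q w).ShortExact) (S : Subobject E) :
    ∃ w' : Subobject.pullbackπ j S ≫ factorThruImageSubobject (S.arrow ≫ q) = 0,
      (ShortComplex.mk (Subobject.pullbackπ j S) (factorThruImageSubobject (S.arrow ≫ q)) w').ShortExact := by
  haveI : Mono j := h.mono_f
  have hp := (Subobject.isPullback j S).w
  have w' : Subobject.pullbackπ j S ≫ factorThruImageSubobject (S.arrow ≫ q) = 0 := by
    rw [← cancel_mono (imageSubobject (S.arrow ≫ q)).arrow, zero_comp, Category.assoc,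
      imageSubobject_arrow_comp, ← Category.assoc, hp, Category.assoc, w, comp_zero]
  refine ⟨w', ?_⟩
  haveI : Mono (Subobject.pullbackπ j S) := by
    haveI : Mono (Subobject.pullbackπ j S ≫ S.arrow) := by rw [hp]; infer_instance
    exact mono_of_mono _ S.arrow
  refine { exact := ShortComplex.exact_of_f_is_kernel _ ?_ }
  refine KernelFork.IsLimit.ofι' _ _ fun {A} a ha => ?_
  have h0 : (a ≫ S.arrow) ≫ q = 0 := by
    rw [Category.assoc]
    exact (congrArg (a ≫ ·) (imageSubobject_arrow_comp (S.arrow ≫ q)).symm).trans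
      ((Category.assoc _ _ _).symm.trans
        ((congrArg (· ≫ (imageSubobject (S.arrow ≫ q)).arrow) ha).trans zero_comp))
  let l := KernelFork.IsLimit.lift' h.fIsKernel (a ≫ S.arrow) h0
  exact ⟨(Subobject.isPullback j S).lift a l.1 (by exact l.2.symm), (Subobject.isPullback j S).lift_fst _ _ _⟩

variable (I : X.IdealSheafData) (k : Type u) [Field k] [X.Over (Spec (CommRingCat.of k))]
  [IsProper (X ↘ Spec (CommRingCat.of k))] (hdim : topologicalKrullDim X = 1)
  (hD : FGA.IsEffCartier I) [IsIntegral X] [Smooth (X ↘ Spec (CommRingCat.of k))]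

include hdim in
/-- Euler characteristics grow along inclusions of the same rank. -/
theorem euler_le_of_mono {A B : X.Modules} (m : A ⟶ B) [Mono m] (hA : Coh.IsCoh A) (hB : Coh.IsCoh B)
    (h : VBLib.rk A = VBLib.rk B) : Curv2.euler k X A ≤ Curv2.euler k X B := by
  have h1 := ((VBLib.goodCurve_of_smooth (k := k) (X := X) hdim).dg_le_of_mono m hA hB h).1
  simp only [VBLib.dg, Curv2.deg, h] at h1
  linarith

include hdim hD k in
/-- The image of a parabolic homomorphism has at most the parabolic degree of its saturation. -/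
theorem parDeg_image_le {E F V V' : X.Modules} {s r₀ r : ℕ} (hE : FlatMod.IsFinLocFreeOfRank r₀ E)
    (hF : FlatMod.IsFinLocFreeOfRank s F) {𝓔 : ParSh.Str E} (h𝓔 : 𝓔.Along I) {𝓕 : ParSh.Str F}
    (h𝓕 : 𝓕.Along I) {φ : E ⟶ F} (hφ : ParSh.IsParHom 𝓔 𝓕 φ) (q : E ⟶ V) [Epi q] (u : V ⟶ V') [Mono u]
    (ι : V' ⟶ F) [Mono ι] (hfac : q ≫ u ≫ ι = φ) (hV : FlatMod.IsFinLocFreeOfRank r V)
    (hV' : FlatMod.IsFinLocFreeOfRank r V') (hsat : FlatMod.IsFinLocFree (cokernel ι)) :
    (𝓔.coinduced q).parDeg k X r ≤ (𝓕.induced ι).parDeg k X r := by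
  have hAV := along_coinduced I h𝓔 q
  have hAV' := along_induced I k hdim hD hF hV' ι hsat h𝓕
  rw [parDeg_eq_of_along I k hdim hD hV hAV, parDeg_eq_of_along I k hdim hD hV' hAV']
  refine add_le_add_left (sub_le_sub_right (parSum_le_of_at_le _ _ _ fun a ha0 ha1 => ?_) _) _
  obtain ⟨i, hi⟩ := exists_isIndex 𝓔 a
  obtain ⟨i', hi'⟩ := exists_isIndex 𝓕 a
  rw [at_eq_pieceX (𝓔.coinduced q) (i := i) hi, at_eq_pieceX (𝓕.induced ι) (i := i') hi']
  have hle₁ := twistSub_le_pieceX I hAV i
  have hle₂ := twistSub_le_pieceX I hAV' i'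
  have hA := isCoh_of_twistSub_le I k hdim hD hV hle₁
  have hB := isCoh_of_twistSub_le I k hdim hD hV' hle₂
  have hfacA : ((𝓕.induced ι).pieceX i').Factors (((𝓔.coinduced q).pieceX i).arrow ≫ u) := by
    rw [induced_pieceX, CategoryTheory.Limits.pullback_factors_iff, factors_iff_comp_eq_zero,
      coinduced_pieceX]
    rw [← cancel_epi (factorThruImageSubobject ((𝓔.pieceX i).arrow ≫ q)), comp_zero]
    simp only [← Category.assoc, imageSubobject_arrow_comp]
    have h := (factors_iff_comp_eq_zero _ _).1 (hφ a ha0 ha1)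
    rw [at_eq_pieceX 𝓔 hi, at_eq_pieceX 𝓕 hi', ← hfac] at h
    simpa only [Category.assoc] using h
  haveI : Mono (Subobject.factorThru _ _ hfacA) := by
    haveI : Mono (Subobject.factorThru _ _ hfacA ≫ ((𝓕.induced ι).pieceX i').arrow) := by
      rw [Subobject.factorThru_arrow]; exact mono_comp _ _
    exact mono_of_mono _ ((𝓕.induced ι).pieceX i').arrow
  exact_mod_cast euler_le_of_mono k hdim (Subobject.factorThru _ _ hfacA) hA hB
    ((rk_of_twistSub_le I k hdim hD hV hle₁).trans (rk_of_twistSub_le I k hdim hD hV' hle₂).symm)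

include hdim hD k in
/-- The parabolic degree is additive along kernel and image. -/
theorem parDeg_add {K E V : X.Modules} {a b c : ℕ} (hK : FlatMod.IsFinLocFreeOfRank a K)
    (hE : FlatMod.IsFinLocFreeOfRank b E) (hV : FlatMod.IsFinLocFreeOfRank c V) {𝓔 : ParSh.Str E}
    (h : 𝓔.Along I) (j : K ⟶ E) (q : E ⟶ V) [Epi q] (w : j ≫ q = 0)
    (hex : (ShortComplex.mk j q w).ShortExact) :
    𝓔.parDeg k X b = (𝓔.induced j).parDeg k X a + (𝓔.coinduced q).parDeg k X c := by
  haveI := hex.mono_f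
  have hsat : FlatMod.IsFinLocFree (cokernel j) := fun x => by
    obtain ⟨U, hx, ⟨φ⟩⟩ := hV x
    exact ⟨U, c, hx, ⟨(Scheme.Modules.restrictFunctor U.ι).mapIso
      ((cokernelIsCokernel j).coconePointUniqueUpToIso hex.gIsCokernel) ≪≫ φ⟩⟩
  have hAV := along_coinduced I h q
  have hAK := along_induced I k hdim hD hE hK j hsat h
  have hX := VBLib.goodCurve_of_smooth (k := k) (X := X) hdim
  have hbc : b = a + c := by
    have h1 := VBLib.rk_add hex (VBLib.isCoh_of_ofRank hE)
    rwa [VBLib.rk_eq hK, VBLib.rk_eq hE, VBLib.rk_eq hV] at h1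
  have hχ : ∀ i : Fin (𝓔.l + 2), (Curv2.euler k X (𝓔.pieceX i : X.Modules) : ℝ) =
      (Curv2.euler k X ((𝓔.induced j).pieceX i : X.Modules) : ℝ) +
        (Curv2.euler k X ((𝓔.coinduced q).pieceX i : X.Modules) : ℝ) := by
    intro i
    have h2 := isCoh_of_twistSub_le I k hdim hD hE (twistSub_le_pieceX I h i)
    have h1 := isCoh_of_twistSub_le I k hdim hD hK (twistSub_le_pieceX I hAK i)
    have h3 := isCoh_of_twistSub_le I k hdim hD hV (twistSub_le_pieceX I hAV i)
    rw [induced_pieceX] at h1 ⊢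
    rw [coinduced_pieceX] at h3 ⊢
    obtain ⟨w', hse⟩ := exists_shortExact_pullback_image w hex (𝓔.pieceX i)
    exact_mod_cast hX.euler_add hse h1 h2 h3
  have hsum : 𝓔.parSum (fun G => (Curv2.euler k X G : ℝ)) =
      (𝓔.induced j).parSum (fun G => (Curv2.euler k X G : ℝ)) +
        (𝓔.coinduced q).parSum (fun G => (Curv2.euler k X G : ℝ)) := by
    rw [ParSh.Str.parSum, ParSh.Str.parSum, ParSh.Str.parSum]
    have hb := hχ (Fin.last _)
    rw [𝓔.pieceX_last, show (𝓔.induced j).pieceX (Fin.last (𝓔.l + 1)) = (𝓔.induced j).bot from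
      (𝓔.induced j).pieceX_last, show (𝓔.coinduced q).pieceX (Fin.last (𝓔.l + 1)) = (𝓔.coinduced q).bot
      from (𝓔.coinduced q).pieceX_last] at hb
    have hs : ∀ i : Fin (𝓔.l + 1),
        𝓔.wt i * ((Curv2.euler k X (𝓔.piece i : X.Modules) : ℝ) -
          Curv2.euler k X (𝓔.pieceX i.succ : X.Modules)) =
        (𝓔.induced j).wt i * ((Curv2.euler k X ((𝓔.induced j).piece i : X.Modules) : ℝ) -
          Curv2.euler k X ((𝓔.induced j).pieceX i.succ : X.Modules)) +
        (𝓔.coinduced q).wt i * ((Curv2.euler k X ((𝓔.coinduced q).piece i : X.Modules) : ℝ) -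
          Curv2.euler k X ((𝓔.coinduced q).pieceX i.succ : X.Modules)) := by
      intro i
      have hp := hχ i.castSucc
      rw [𝓔.pieceX_castSucc, show (𝓔.induced j).pieceX i.castSucc = (𝓔.induced j).piece i from
        (𝓔.induced j).pieceX_castSucc i, show (𝓔.coinduced q).pieceX i.castSucc =
        (𝓔.coinduced q).piece i from (𝓔.coinduced q).pieceX_castSucc i] at hp
      rw [hp, hχ i.succ]
      simp only [ParSh.Str.induced, ParSh.Str.coinduced]
      ring
    rw [Finset.sum_congr rfl fun i _ => hs i, Finset.sum_add_distrib, hb]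
    ring!
  rw [parDeg_eq_of_along I k hdim hD hE h, parDeg_eq_of_along I k hdim hD hK hAK,
    parDeg_eq_of_along I k hdim hD hV hAV, hsum, hbc]
  push_cast
  ring

end Groth.Agent.ParShLib
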