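import Groth.Agent.ParShLib.One
import Groth.Agent.ParShLib.CurveHom
import Groth.Agent.ShStabLib.Quot

/-!
# Kernel and image of a parabolic map: the parabolic polynomials
-/

universe u

open CategoryTheory CategoryTheory.Limits AlgebraicGeometry TopologicalSpace Filter
open W4swparbununimod (rpoly parPoly)
open Groth.Agent.HilbPolyX Groth.Agent.ShStabLib

set_option linter.style.haveILetI false

noncomputable section

namespace Groth.Agent.ParShLib

/-- The positive combination expressing a parabolic sum through the pieces. -/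
def comb {C : Type*} [Category C] {Z : C} (𝓔 : ParSh.Str Z) (g : Fin (𝓔.l + 2) → ℝ) : ℝ :=
  𝓔.wt 0 * g 0 + ∑ j : Fin (𝓔.l + 1), (𝓔.wtX j.succ - 𝓔.wtX j.castSucc) * g j.succ

theorem eval_parPoly_eq_comb {C : Type*} [Category C] {Z : C} (𝓔 : ParSh.Str Z)
    (PX : Fin (𝓔.l + 2) → Polynomial ℚ) (m : ℕ) :
    (parPoly 𝓔 PX).eval (m : ℝ) = comb 𝓔 fun i => (((PX i).eval (m : ℚ) : ℚ) : ℝ) := by
  refine (congrArg (Polynomial.eval (m : ℝ)) (parPoly_eq 𝓔 PX)).trans ?_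
  simp only [Polynomial.eval_sub, Polynomial.eval_finsetSum, Polynomial.eval_mul, Polynomial.eval_C,
    eval_rpoly]
  exact sub_sum_step 𝓔 fun i => (((PX i).eval (m : ℚ) : ℚ) : ℝ)

theorem comb_mono {C : Type*} [Category C] {Z : C} (𝓔 : ParSh.Str Z) {g h : Fin (𝓔.l + 2) → ℝ}
    (hle : ∀ i, g i ≤ h i) : comb 𝓔 g ≤ comb 𝓔 h :=
  add_le_add (mul_le_mul_of_nonneg_left (hle 0) 𝓔.wt_nonneg)
    (Finset.sum_le_sum fun j _ => mul_le_mul_of_nonneg_left (hle j.succ) (wtX_step_pos 𝓔 j).le)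

theorem eq_of_comb_eq {C : Type*} [Category C] {Z : C} (𝓔 : ParSh.Str Z) (hw : 0 < 𝓔.wt 0)
    {g h : Fin (𝓔.l + 2) → ℝ} (hle : ∀ i, g i ≤ h i) (he : comb 𝓔 g = comb 𝓔 h) : g = h := by
  have h0 : 𝓔.wt 0 * g 0 ≤ 𝓔.wt 0 * h 0 := mul_le_mul_of_nonneg_left (hle 0) hw.le
  have h1 : ∑ j : Fin (𝓔.l + 1), (𝓔.wtX j.succ - 𝓔.wtX j.castSucc) * g j.succ ≤
      ∑ j : Fin (𝓔.l + 1), (𝓔.wtX j.succ - 𝓔.wtX j.castSucc) * h j.succ :=
    Finset.sum_le_sum fun j _ => mul_le_mul_of_nonneg_left (hle j.succ) (wtX_step_pos 𝓔 j).le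
  simp only [comb] at he
  have e0 : 𝓔.wt 0 * g 0 = 𝓔.wt 0 * h 0 := by linarith
  have e1 := (Finset.sum_eq_sum_iff_of_le fun j _ =>
    mul_le_mul_of_nonneg_left (hle j.succ) (wtX_step_pos 𝓔 j).le).1 (by linarith :
      ∑ j : Fin (𝓔.l + 1), (𝓔.wtX j.succ - 𝓔.wtX j.castSucc) * g j.succ =
        ∑ j : Fin (𝓔.l + 1), (𝓔.wtX j.succ - 𝓔.wtX j.castSucc) * h j.succ)
  funext i
  induction i using Fin.cases with
  | zero => exact mul_left_cancel₀ hw.ne' e0
  | succ j => exact mul_left_cancel₀ (wtX_step_pos 𝓔 j).ne' (e1 j (Finset.mem_univ j))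

theorem comb_add {C : Type*} [Category C] {Z : C} (𝓔 : ParSh.Str Z) (g h : Fin (𝓔.l + 2) → ℝ) :
    comb 𝓔 (fun i => g i + h i) = comb 𝓔 g + comb 𝓔 h := by
  simp only [comb, mul_add, Finset.sum_add_distrib]
  ring

/-- Same weights: the structure may be written with the same length and weights. -/
theorem exists_eq_of_range_wt {C : Type*} [Category C] {Z Z' : C} (𝓔 : ParSh.Str Z) (𝓕 : ParSh.Str Z')
    (hw : Set.range 𝓕.wt = Set.range 𝓔.wt) :
    ∃ (pc : Fin (𝓔.l + 1) → Subobject Z') (bt : Subobject Z') (h0 : pc 0 = ⊤) (ha : Antitone pc)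
      (hb : ∀ j, bt ≤ pc j),
      𝓕 = ParSh.Str.mk 𝓔.l pc bt 𝓔.wt h0 ha hb 𝓔.wt_strictMono 𝓔.wt_nonneg 𝓔.wt_lt_one := by
  obtain ⟨l', pc, bt, wtF, h0, ha, hb, hs, hn, hl⟩ := 𝓕
  have hl' : l' = 𝓔.l := by
    have h1 := congrArg Set.ncard hw
    rw [Set.ncard_range_of_injective hs.injective, Set.ncard_range_of_injective 𝓔.wt_strictMono.injective,
      Nat.card_fin, Nat.card_fin] at h1
    omega
  subst hl'
  obtain rfl : wtF = 𝓔.wt := (StrictMono.range_inj hs 𝓔.wt_strictMono).1 hw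
  exact ⟨pc, bt, h0, ha, hb, rfl⟩

theorem poly_eq_of_eventually {R : Type*} [CommRing R] [IsDomain R] [CharZero R] {P Q : Polynomial R}
    {M : ℕ} (h : ∀ m : ℕ, M ≤ m → P.eval (m : R) = Q.eval (m : R)) : P = Q :=
  Polynomial.eq_of_infinite_eval_eq P Q (((Set.Ici_infinite M).image
    (f := fun m : ℕ => (m : R)) Nat.cast_injective.injOn).mono (by
      rintro _ ⟨m, hm, rfl⟩
      exact h m hm))

variable {X : Scheme.{u}} (k : Type u) [Field k] [X.Over (Spec (CommRingCat.of k))]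
  [IsProper (X ↘ Spec (CommRingCat.of k))] {L : X.Modules} (hL : CohB1.IsAmple L)

include k in
theorem isCoh_image_piece {K E V : X.Modules} {j : K ⟶ E} {q : E ⟶ V} {w : j ≫ q = 0}
    (h : (ShortComplex.mk j q w).ShortExact) (hK : Coh.IsCoh K) (hE : Coh.IsCoh E) {S : Subobject E}
    (hS : IsCohSub S) : IsCohSub (imageSubobject (S.arrow ≫ q)) := by
  obtain ⟨w', hse⟩ := exists_shortExact_pullback_image w h S
  exact CohDev.isCoh_of_iso
    ((cokernelIsCokernel (Subobject.pullbackπ j S)).coconePointUniqueUpToIso hse.gIsCokernel)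
    (HilbPolyX.isCoh_of_monoCokernel _ (isCoh_pullback k j hK hE hS) hS)

include k hL in
theorem hilb_pullback_add_image {K E V : X.Modules} {j : K ⟶ E} {q : E ⟶ V} {w : j ≫ q = 0}
    (h : (ShortComplex.mk j q w).ShortExact) (hK : Coh.IsCoh K) (hE : Coh.IsCoh E) {S : Subobject E}
    (hS : IsCohSub S) :
    hs k L S = hs k L ((Subobject.pullback j).obj S) + hs k L (imageSubobject (S.arrow ≫ q)) := by
  obtain ⟨w', hse⟩ := exists_shortExact_pullback_image w h S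
  exact hilb_add k hL hse (isCoh_pullback k j hK hE hS) hS (isCoh_image_piece k h hK hE hS)

theorem eventually_eval_le {P Q : Polynomial ℚ} (h : StabCat.PolyLE P Q) :
    ∀ᶠ m : ℕ in atTop, ((P.eval (m : ℚ) : ℚ) : ℝ) ≤ ((Q.eval (m : ℚ) : ℚ) : ℝ) := by
  obtain ⟨M, hM⟩ := h
  exact eventually_atTop.2 ⟨M, fun m hm => by exact_mod_cast hM m hm⟩

theorem isPure_of_isZero {Z : X.Modules} (h : IsZero Z) (d : ℕ) : ShStab.IsPure X Z d :=
  fun _ κ _ _ hG0 => absurd (IsZero.of_mono κ h) hG0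

end Groth.Agent.ParShLib
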