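import Groth.Agent.ParShLib.Slope

/-!
# The first modified parabolic polynomial
-/

universe u

open CategoryTheory CategoryTheory.Limits AlgebraicGeometry TopologicalSpace Filter
open StabCat (alpha RedLE RedLT)
open W4swparbununimod (rpoly parPoly parPolyOne)
open Groth.Agent.HilbPolyX Groth.Agent.ShStabLib

set_option linter.style.haveILetI false

noncomputable section

namespace Groth.Agent.ParShLib

theorem sub_sum_step {C : Type*} [Category C] {Z : C} (𝓔 : ParSh.Str Z) (g : Fin (𝓔.l + 2) → ℝ) :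
    g 0 - ∑ j : Fin (𝓔.l + 1), (𝓔.wtX j.succ - 𝓔.wtX j.castSucc) * (g 0 - g j.succ) =
      𝓔.wt 0 * g 0 + ∑ j : Fin (𝓔.l + 1), (𝓔.wtX j.succ - 𝓔.wtX j.castSucc) * g j.succ := by
  simp only [mul_sub, Finset.sum_sub_distrib, ← Finset.sum_mul]
  have hs := sum_step 𝓔
  rw [Finset.sum_sub_distrib] at hs
  linear_combination -(g 0) * hs

variable {X : Scheme.{u}} {E W : X.Modules} (k : Type u) [Field k]
  [X.Over (Spec (CommRingCat.of k))] [IsProper (X ↘ Spec (CommRingCat.of k))]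
  {L : X.Modules} (hL : CohB1.IsAmple L) {𝓔 : ParSh.Str E} (ι : W ⟶ E) [Mono ι]

include hL in
omit [Mono ι] in
/-- `par-P₁` and `par-P₀` have the same two top coefficients. -/
theorem coeff_parPolyOne {I : X.IdealSheafData} (hE : Coh.IsCoh E) (h : 𝓔.Along I)
    (hcoh : ∀ j, Coh.IsCoh ((𝓔.pieceX j : Subobject E) : X.Modules)) {d : ℕ} (hd : 1 ≤ d)
    (hsupp : topologicalKrullDim ↥(CohB1.support E ∩ (I.support : Set X)) < (d : WithBot ℕ∞))
    {H : Fin (𝓔.l + 2) → Polynomial ℚ}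
    (hH : ∀ j, ShStab.IsHilbPoly k X L (cokernel (𝓔.pieceX j).arrow) (H j))
    (hHa : ∀ j : Fin (𝓔.l + 1), alpha (d - 1) (H j.succ) ≠ 0) (hW : Coh.IsCoh W)
    {Q : Polynomial ℚ} (hQ : ShStab.IsHilbPoly k X L W Q) {QX : Fin (𝓔.l + 2) → Polynomial ℚ}
    (hQX : ∀ j, ShStab.IsHilbPoly k X L (((𝓔.induced ι).pieceX j : Subobject W) : X.Modules) (QX j))
    {QH : Fin (𝓔.l + 2) → Polynomial ℚ}
    (hQH : ∀ j, ShStab.IsHilbPoly k X L (cokernel ((𝓔.induced ι).pieceX j).arrow) (QH j))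
    {n : ℕ} (hn : n = d - 1 ∨ n = d) :
    (parPolyOne 𝓔 d Q QH H).coeff n = (parPoly (𝓔.induced ι) QX).coeff n := by
  have hcW : ∀ j, Coh.IsCoh (((𝓔.induced ι).pieceX j : Subobject W) : X.Modules) :=
    isCoh_induced k ι hW hE hcoh
  have hH' : ∀ j, H j = hilb k L (cokernel (𝓔.pieceX j).arrow) := fun j =>
    eq_hilb k hL (HilbPolyX.isCoh_of_monoCokernel _ (hcoh j) hE) (hH j)
  have hQH' : ∀ j, QH j = hilb k L (cokernel ((𝓔.induced ι).pieceX j).arrow) := fun j =>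
    eq_hilb k hL (HilbPolyX.isCoh_of_monoCokernel _ (hcW j) hW) (hQH j)
  rw [parPoly_eq_sub k hL hW hcW hQX, parPolyOne, eq_hilb k hL hW hQ]
  simp only [Polynomial.coeff_sub, Polynomial.finsetSum_coeff, Polynomial.coeff_C_mul, coeff_rpoly]
  congr 1
  refine Finset.sum_congr rfl fun (j : Fin (𝓔.l + 1)) _ => ?_
  show _ = (𝓔.wtX j.succ - 𝓔.wtX j.castSucc) *
    (((hilb k L (cokernel ((𝓔.induced ι).pieceX j.succ).arrow)).coeff n : ℚ) : ℝ)
  rw [mul_assoc]
  congr 1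
  rw [← hQH', ← Rat.cast_mul, alpha_div_alpha]
  congr 1
  rcases hn with rfl | rfl
  · refine div_mul_cancel₀ _ ?_
    have := hHa j
    simp only [alpha] at this
    exact right_ne_zero_of_mul this
  · rw [hH', coeff_hilb_coker_eq_zero k hL hE h hcoh hsupp j.succ le_rfl, mul_zero, hQH']
    have hc := HilbPolyX.isCoh_of_monoCokernel ((𝓔.induced ι).pieceX j.succ).arrow (hcW _) hW
    exact (coeff_eq_zero k hL.1 hc (isHilbPoly_hilb k hL hc)
      (dim_coker_induced_lt h hsupp ι j.succ) le_rfl).symm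

include hL in
omit [Mono ι] in
/-- For semistable flag quotients `par-P₁ ≤ par-P₀`. -/
theorem parPolyOne_le (hE : Coh.IsCoh E)
    (hcoh : ∀ j, Coh.IsCoh ((𝓔.pieceX j : Subobject E) : X.Modules)) {d : ℕ}
    {H : Fin (𝓔.l + 2) → Polynomial ℚ}
    (hH : ∀ j, ShStab.IsHilbPoly k X L (cokernel (𝓔.pieceX j).arrow) (H j))
    (hq : ∀ j : Fin (𝓔.l + 1),
      ShStab.IsSemistable k X L (cokernel (𝓔.pieceX j.succ).arrow) (d - 1))
    (hW : Coh.IsCoh W) {Q : Polynomial ℚ} (hQ : ShStab.IsHilbPoly k X L W Q)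
    {QH : Fin (𝓔.l + 2) → Polynomial ℚ}
    (hQH : ∀ j, ShStab.IsHilbPoly k X L (cokernel ((𝓔.induced ι).pieceX j).arrow) (QH j))
    {QX : Fin (𝓔.l + 2) → Polynomial ℚ}
    (hQX : ∀ j, ShStab.IsHilbPoly k X L (((𝓔.induced ι).pieceX j : Subobject W) : X.Modules) (QX j)) :
    ∃ M : ℕ, ∀ m : ℕ, M ≤ m →
      (parPolyOne 𝓔 d Q QH H).eval (m : ℝ) ≤ (parPoly (𝓔.induced ι) QX).eval (m : ℝ) := by
  have hcW : ∀ j, Coh.IsCoh (((𝓔.induced ι).pieceX j : Subobject W) : X.Modules) :=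
    isCoh_induced k ι hW hE hcoh
  have hC := fun j => HilbPolyX.isCoh_of_monoCokernel ((𝓔.induced ι).pieceX j).arrow (hcW j) hW
  have key : ∀ j : Fin (𝓔.l + 1), ∃ M : ℕ, ∀ m : ℕ, M ≤ m →
      (((QH j.succ).eval (m : ℚ) : ℚ) : ℝ) ≤
        ((alpha (d - 1) (QH j.succ) / alpha (d - 1) (H j.succ) : ℚ) : ℝ) *
          (((H j.succ).eval (m : ℚ) : ℚ) : ℝ) := fun j => by
    obtain ⟨κ, _⟩ := exists_mono_induced ι 𝓔 j.succ
    have hS := hq j
    have hpos : 0 < alpha (d - 1) (H j.succ) := by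
      rw [eq_hilb k hL hS.1 (hH _)]
      exact alpha_pos_of_isPure k hL hS.1 hS.2.1 hS.2.2.1
    have hle : RedLE (d - 1) (QH j.succ) (H j.succ) := by
      rw [show QH j.succ = hilb k L (cokernel ((𝓔.induced ι).pieceX j.succ).arrow) from
        eq_hilb k hL (hC _) (hQH _), eq_hilb k hL hS.1 (hH _)]
      by_cases hz : IsZero (cokernel ((𝓔.induced ι).pieceX j.succ).arrow)
      · rw [hilb_eq_zero_of_isZero k hL hz]
        exact redLE_of_eq (by simp [StabCat.RedEq, alpha])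
      · exact redLE_of_mono_isSemistable k hL hS κ (hC _) hz
    obtain ⟨M, hM⟩ := hle
    refine ⟨M, fun m hm => ?_⟩
    have h1 := hM m hm
    simp only [Polynomial.eval_smul, smul_eq_mul] at h1
    rw [← Rat.cast_mul, Rat.cast_le, div_mul_eq_mul_div, le_div_iff₀ hpos, mul_comm]
    exact h1
  choose M hM using key
  refine ⟨Finset.univ.sup M, fun m hm => ?_⟩
  rw [parPoly_eq_sub k hL hW hcW hQX, parPolyOne, eq_hilb k hL hW hQ]
  simp only [Polynomial.eval_sub, Polynomial.eval_finsetSum, Polynomial.eval_mul, Polynomial.eval_C,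
    eval_rpoly]
  refine sub_le_sub_left (Finset.sum_le_sum fun (j : Fin (𝓔.l + 1)) _ => ?_) _
  show (𝓔.wtX j.succ - 𝓔.wtX j.castSucc) *
    (((hilb k L (cokernel ((𝓔.induced ι).pieceX j.succ).arrow)).eval (m : ℚ) : ℚ) : ℝ) ≤ _
  rw [← eq_hilb k hL (hC _) (hQH j.succ), mul_assoc]
  exact mul_le_mul_of_nonneg_left (hM j m ((Finset.le_sup (Finset.mem_univ j)).trans hm))
    (wtX_step_pos 𝓔 j).le

include hL in
/-- Pulled-back pieces grow with the submodule. -/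
theorem exists_mono_induced_of_le {W' : X.Modules} (ι' : W' ⟶ E) [Mono ι'] (a : W ⟶ W')
    (ha : a ≫ ι' = ι) (hW : Coh.IsCoh W) (hW' : Coh.IsCoh W') (hE : Coh.IsCoh E)
    (hcoh : ∀ j, Coh.IsCoh ((𝓔.pieceX j : Subobject E) : X.Modules)) (j : Fin (𝓔.l + 2)) :
    StabCat.PolyLE (hilb k L (((𝓔.induced ι).pieceX j : Subobject W) : X.Modules))
      (hilb k L (((𝓔.induced ι').pieceX j : Subobject W') : X.Modules)) := by
  haveI : Mono a := by
    haveI : Mono (a ≫ ι') := ha ▸ ‹Mono ι›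
    exact mono_of_mono a ι'
  have h := isCoh_induced k ι hW hE hcoh j
  have h' := isCoh_induced k ι' hW' hE hcoh j
  rw [induced_pieceX, induced_pieceX] at *
  let S := 𝓔.pieceX j
  let b : (((Subobject.pullback ι).obj S : Subobject W) : X.Modules) ⟶
      (((Subobject.pullback ι').obj S : Subobject W') : X.Modules) :=
    (Subobject.isPullback ι' S).lift (Subobject.pullbackπ ι S)
      (((Subobject.pullback ι).obj S).arrow ≫ a)
      (by rw [Category.assoc, ha]; exact (Subobject.isPullback ι S).w)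
  haveI : Mono b := by
    haveI : Mono (b ≫ ((Subobject.pullback ι').obj S).arrow) := by
      rw [(Subobject.isPullback ι' S).lift_snd]
      exact mono_comp _ _
    exact mono_of_mono b ((Subobject.pullback ι').obj S).arrow
  rw [hilb_mono k hL b h h', polyLE_iff, add_sub_cancel_left]
  have := hilb_nonneg k hL (HilbPolyX.isCoh_of_monoCokernel b h h')
  rwa [polyLE_iff, sub_zero] at this

include hL in
/-- The parabolic polynomial grows with the submodule. -/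
theorem parPoly_le_of_le {W' : X.Modules} (ι' : W' ⟶ E) [Mono ι'] (a : W ⟶ W')
    (ha : a ≫ ι' = ι) (hW : Coh.IsCoh W) (hW' : Coh.IsCoh W') (hE : Coh.IsCoh E)
    (hcoh : ∀ j, Coh.IsCoh ((𝓔.pieceX j : Subobject E) : X.Modules))
    {QX : Fin (𝓔.l + 2) → Polynomial ℚ}
    (hQX : ∀ j, ShStab.IsHilbPoly k X L (((𝓔.induced ι).pieceX j : Subobject W) : X.Modules) (QX j))
    {QX' : Fin (𝓔.l + 2) → Polynomial ℚ}
    (hQX' : ∀ j, ShStab.IsHilbPoly k X L (((𝓔.induced ι').pieceX j : Subobject W') : X.Modules) (QX' j)) :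
    ∃ M : ℕ, ∀ m : ℕ, M ≤ m →
      (parPoly (𝓔.induced ι) QX).eval (m : ℝ) ≤ (parPoly (𝓔.induced ι') QX').eval (m : ℝ) := by
  have key : ∀ j, ∃ M : ℕ, ∀ m : ℕ, M ≤ m →
      (((QX j).eval (m : ℚ) : ℚ) : ℝ) ≤ (((QX' j).eval (m : ℚ) : ℚ) : ℝ) := fun j => by
    obtain ⟨M, hM⟩ := exists_mono_induced_of_le k hL ι ι' a ha hW hW' hE hcoh j
    refine ⟨M, fun m hm => ?_⟩
    rw [eq_hilb k hL (isCoh_induced k ι hW hE hcoh j) (hQX j),
      eq_hilb k hL (isCoh_induced k ι' hW' hE hcoh j) (hQX' j)]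
    exact_mod_cast hM m hm
  choose M hM using key
  refine ⟨Finset.univ.sup M, fun m hm => ?_⟩
  have hle := fun j => hM j m ((Finset.le_sup (Finset.mem_univ j)).trans hm)
  have expand : ∀ (V : X.Modules) (c : V ⟶ E) (PX : Fin (𝓔.l + 2) → Polynomial ℚ),
      (parPoly (𝓔.induced c) PX).eval (m : ℝ) =
        𝓔.wt 0 * (((PX 0).eval (m : ℚ) : ℚ) : ℝ) + ∑ j : Fin (𝓔.l + 1),
          (𝓔.wtX j.succ - 𝓔.wtX j.castSucc) * (((PX j.succ).eval (m : ℚ) : ℚ) : ℝ) := fun V c PX => by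
    refine (congrArg (Polynomial.eval (m : ℝ)) (parPoly_eq (𝓔.induced c) PX)).trans ?_
    simp only [Polynomial.eval_sub, Polynomial.eval_finsetSum, Polynomial.eval_mul, Polynomial.eval_C,
      eval_rpoly]
    exact sub_sum_step 𝓔 fun i => (((PX i).eval (m : ℚ) : ℚ) : ℝ)
  rw [expand W ι QX, expand W' ι' QX']
  exact add_le_add (mul_le_mul_of_nonneg_left (hle 0) 𝓔.wt_nonneg)
    (Finset.sum_le_sum fun j _ => mul_le_mul_of_nonneg_left (hle j.succ) (wtX_step_pos 𝓔 j).le)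

end Groth.Agent.ParShLib
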