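import Groth.Agent.ParShLib.Basic

/-!
# Comparisons of parabolic Hilbert polynomials
-/

universe u

open CategoryTheory CategoryTheory.Limits AlgebraicGeometry TopologicalSpace Filter
open StabCat (alpha RedLE RedLT)
open W4swparbununimod (rpoly parPoly parPolyOne)
open Groth.Agent.HilbPolyX Groth.Agent.ShStabLib

set_option linter.style.haveILetI false

noncomputable section

namespace Groth.Agent.ParShLib

/-! ### Eventual signs -/

theorem tendsto_eval_div_pow (D : Polynomial ℝ) {e : ℕ} (h : D.natDegree ≤ e) :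
    Tendsto (fun m : ℕ => D.eval (m : ℝ) / (m : ℝ) ^ e) atTop (nhds (D.coeff e)) := by
  have hx : (fun x : ℝ => D.eval x / x ^ e) = fun x => D.eval x / (Polynomial.X ^ e : Polynomial ℝ).eval x := by
    simp
  suffices key : Tendsto (fun x : ℝ => D.eval x / x ^ e) atTop (nhds (D.coeff e)) from
    key.comp tendsto_natCast_atTop_atTop
  rw [hx]
  rcases h.eq_or_lt with he | hlt
  · by_cases hD : D = 0
    · simp [hD]
    · have hdeg : D.degree = (Polynomial.X ^ e : Polynomial ℝ).degree := by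
        rw [Polynomial.degree_X_pow, Polynomial.degree_eq_natDegree hD, he]
      have := D.div_tendsto_atTop_leadingCoeff_div_of_degree_eq _ hdeg
      simpa [Polynomial.leadingCoeff, he] using this
  · rw [Polynomial.coeff_eq_zero_of_natDegree_lt hlt]
    refine D.div_tendsto_atTop_zero_of_degree_lt _ ?_
    rw [Polynomial.degree_X_pow]
    exact Polynomial.degree_le_natDegree.trans_lt (by exact_mod_cast hlt)

theorem coeff_nonneg_of_eventually {D : Polynomial ℝ} {e : ℕ} (h : D.natDegree ≤ e)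
    (hD : ∃ M : ℕ, ∀ m : ℕ, M ≤ m → 0 ≤ D.eval (m : ℝ)) : 0 ≤ D.coeff e := by
  obtain ⟨M, hM⟩ := hD
  refine ge_of_tendsto (tendsto_eval_div_pow D h) (eventually_atTop.2 ⟨M, fun m hm => ?_⟩)
  exact div_nonneg (hM m hm) (by positivity)

theorem eventually_pos_of_coeff {D : Polynomial ℝ} {e : ℕ} (h : D.natDegree ≤ e)
    (hD : 0 < D.coeff e) : ∃ M : ℕ, ∀ m : ℕ, M ≤ m → 0 < D.eval (m : ℝ) := by
  obtain ⟨M, hM⟩ := eventually_atTop.1 ((tendsto_eval_div_pow D h).eventually (eventually_gt_nhds hD))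
  refine ⟨M + 1, fun m hm => ?_⟩
  have hpos : (0 : ℝ) < (m : ℝ) ^ e := pow_pos (by exact_mod_cast (show 0 < m by omega)) e
  exact (div_pos_iff_of_pos_right hpos).1 (hM m (by omega))

theorem eval_rpoly (P : Polynomial ℚ) (m : ℕ) :
    (rpoly P).eval (m : ℝ) = ((P.eval (m : ℚ) : ℚ) : ℝ) := by
  rw [show (m : ℝ) = Rat.castHom ℝ (m : ℚ) by simp]
  simp only [rpoly, Polynomial.eval_map, Polynomial.eval₂_at_apply]
  rfl

theorem coeff_rpoly (P : Polynomial ℚ) (i : ℕ) : (rpoly P).coeff i = ((P.coeff i : ℚ) : ℝ) :=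
  Polynomial.coeff_map _ _

/-- The ratio of two polynomials of degree at most `e` tends to the ratio of their coefficients there. -/
theorem tendsto_ratio {A B : Polynomial ℚ} {e : ℕ} (hA : A.natDegree ≤ e) (hB : B.natDegree ≤ e)
    (hb : B.coeff e ≠ 0) :
    Tendsto (fun n : ℕ => ((A.eval (n : ℚ) / B.eval (n : ℚ) : ℚ) : ℝ)) atTop
      (nhds ((A.coeff e / B.coeff e : ℚ) : ℝ)) := by
  have h1 := (tendsto_eval_div_pow (rpoly A) (Polynomial.natDegree_map_le.trans hA)).div
    (tendsto_eval_div_pow (rpoly B) (Polynomial.natDegree_map_le.trans hB))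
    (by rw [coeff_rpoly]; exact_mod_cast hb)
  rw [coeff_rpoly, coeff_rpoly] at h1
  rw [show ((A.coeff e / B.coeff e : ℚ) : ℝ) = (A.coeff e : ℝ) / (B.coeff e : ℝ) by push_cast; rfl]
  refine h1.congr' (eventually_atTop.2 ⟨1, fun n hn => ?_⟩)
  have hpos : ((n : ℝ)) ^ e ≠ 0 := (pow_pos (by exact_mod_cast hn) e).ne'
  simp only [Pi.div_apply, eval_rpoly, Rat.cast_div]
  rw [div_div_div_cancel_right₀ hpos]

theorem alpha_div_alpha (e : ℕ) (A B : Polynomial ℚ) :
    alpha e A / alpha e B = A.coeff e / B.coeff e := by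
  simp only [alpha]
  rw [mul_div_mul_left _ _ (by exact_mod_cast e.factorial_ne_zero)]

/-! ### Bounds -/

variable {X : Scheme.{u}} {E : X.Modules} (k : Type u) [Field k] [X.Over (Spec (CommRingCat.of k))]
  [IsProper (X ↘ Spec (CommRingCat.of k))] {L : X.Modules} (hL : CohB1.IsAmple L)

omit [Field k] [X.Over (Spec (CommRingCat.of k))] [IsProper (X ↘ Spec (CommRingCat.of k))] in
/-- Integers below `d`. -/
theorem dim_le_pred {F : X.Modules} {d : ℕ}
    (h : topologicalKrullDim ↥(CohB1.support F) < (d : WithBot ℕ∞)) :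
    topologicalKrullDim ↥(CohB1.support F) ≤ ((d - 1 : ℕ) : WithBot ℕ∞) := by
  revert h
  cases topologicalKrullDim ↥(CohB1.support F) using WithBot.recBotCoe with
  | bot => exact fun _ => bot_le
  | coe a =>
    intro h
    cases a using ENat.recTopCoe with
    | top => exact absurd (show (⊤ : ℕ∞) < (d : ℕ∞) from WithBot.coe_lt_coe.1 h) (by simp)
    | coe a =>
      have : a < d := by exact_mod_cast h
      exact WithBot.coe_le_coe.2 (ENat.natCast_le_natCast.2 (Nat.le_sub_one_of_lt this))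

include hL in
/-- Hilbert polynomials of quotients by pieces have degree below `d`. -/
theorem coeff_hilb_coker_eq_zero {I : X.IdealSheafData} (hE : Coh.IsCoh E) {𝓔 : ParSh.Str E}
    (h : 𝓔.Along I) (hcoh : ∀ j, Coh.IsCoh ((𝓔.pieceX j : Subobject E) : X.Modules)) {d : ℕ}
    (hsupp : topologicalKrullDim ↥(CohB1.support E ∩ (I.support : Set X)) < (d : WithBot ℕ∞))
    (j : Fin (𝓔.l + 2)) {n : ℕ} (hn : d ≤ n) :
    (hilb k L (cokernel (𝓔.pieceX j).arrow)).coeff n = 0 := by
  have hc := HilbPolyX.isCoh_of_monoCokernel (𝓔.pieceX j).arrow (hcoh j) hE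
  exact coeff_eq_zero k hL.1 hc (isHilbPoly_hilb k hL hc)
    (dim_coker_piece_lt h hsupp j) hn

include hL in
theorem coeff_hilb_coker_nonneg {I : X.IdealSheafData} (hE : Coh.IsCoh E) {𝓔 : ParSh.Str E}
    (h : 𝓔.Along I) (hcoh : ∀ j, Coh.IsCoh ((𝓔.pieceX j : Subobject E) : X.Modules)) {d : ℕ}
    (hsupp : topologicalKrullDim ↥(CohB1.support E ∩ (I.support : Set X)) < (d : WithBot ℕ∞))
    (j : Fin (𝓔.l + 2)) : 0 ≤ (hilb k L (cokernel (𝓔.pieceX j).arrow)).coeff (d - 1) := by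
  have hc := HilbPolyX.isCoh_of_monoCokernel (𝓔.pieceX j).arrow (hcoh j) hE
  have h0 := alpha_hilb_nonneg k hL hc (dim_le_pred (dim_coker_piece_lt h hsupp j))
  exact nonneg_of_mul_nonneg_right (by simpa [alpha] using h0)
    (by exact_mod_cast (d - 1).factorial_pos)

include hL in
/-- The leading coefficient of the parabolic polynomial. -/
theorem coeff_parPoly_top {I : X.IdealSheafData} (hE : Coh.IsCoh E) {𝓔 : ParSh.Str E}
    (h : 𝓔.Along I) (hcoh : ∀ j, Coh.IsCoh ((𝓔.pieceX j : Subobject E) : X.Modules)) {d : ℕ}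
    (hsupp : topologicalKrullDim ↥(CohB1.support E ∩ (I.support : Set X)) < (d : WithBot ℕ∞))
    {PX : Fin (𝓔.l + 2) → Polynomial ℚ}
    (hPX : ∀ j, ShStab.IsHilbPoly k X L ((𝓔.pieceX j : Subobject E) : X.Modules) (PX j))
    {n : ℕ} (hn : d ≤ n) :
    (parPoly 𝓔 PX).coeff n = (rpoly (hilb k L E)).coeff n := by
  rw [parPoly_eq_sub k hL hE hcoh hPX, Polynomial.coeff_sub, Polynomial.finsetSum_coeff,
    Finset.sum_eq_zero, sub_zero]
  intro j _
  rw [Polynomial.coeff_C_mul, coeff_rpoly, coeff_hilb_coker_eq_zero k hL hE h hcoh hsupp _ hn,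
    Rat.cast_zero, mul_zero]

include k in
theorem isCoh_induced {W : X.Modules} (ι : W ⟶ E) (hW : Coh.IsCoh W) (hE : Coh.IsCoh E)
    {𝓔 : ParSh.Str E} (hcoh : ∀ j, Coh.IsCoh ((𝓔.pieceX j : Subobject E) : X.Modules))
    (j : Fin (𝓔.l + 2)) :
    Coh.IsCoh (((𝓔.induced ι).pieceX j : Subobject W) : X.Modules) := by
  rw [induced_pieceX]
  exact isCoh_pullback k ι hW hE (hcoh j)

omit [Field k] [X.Over (Spec (CommRingCat.of k))] [IsProper (X ↘ Spec (CommRingCat.of k))] in
theorem exists_mono_induced {W : X.Modules} (ι : W ⟶ E) (𝓔 : ParSh.Str E) (j : Fin (𝓔.l + 2)) :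
    ∃ κ : cokernel ((𝓔.induced ι).pieceX j).arrow ⟶ cokernel (𝓔.pieceX j).arrow, Mono κ := by
  rw [induced_pieceX]
  exact exists_mono_coker_induced ι _

omit [Field k] [X.Over (Spec (CommRingCat.of k))] [IsProper (X ↘ Spec (CommRingCat.of k))] in
theorem dim_coker_induced_lt {I : X.IdealSheafData} {𝓔 : ParSh.Str E} (h : 𝓔.Along I) {d : ℕ}
    (hsupp : topologicalKrullDim ↥(CohB1.support E ∩ (I.support : Set X)) < (d : WithBot ℕ∞))
    {W : X.Modules} (ι : W ⟶ E) (j : Fin (𝓔.l + 2)) :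
    topologicalKrullDim ↥(CohB1.support (cokernel ((𝓔.induced ι).pieceX j).arrow)) <
      (d : WithBot ℕ∞) := by
  obtain ⟨κ, _⟩ := exists_mono_induced ι 𝓔 j
  exact ((Topology.IsEmbedding.inclusion
    (CohDev.support_subset_of_mono κ)).isInducing.topologicalKrullDim_le).trans_lt
      (dim_coker_piece_lt h hsupp j)

include hL in
/-- The degree of a parabolic polynomial. -/
theorem natDegree_parPoly_le (hE : Coh.IsCoh E) {𝓔 : ParSh.Str E}
    (hcoh : ∀ j, Coh.IsCoh ((𝓔.pieceX j : Subobject E) : X.Modules))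
    {PX : Fin (𝓔.l + 2) → Polynomial ℚ}
    (hPX : ∀ j, ShStab.IsHilbPoly k X L ((𝓔.pieceX j : Subobject E) : X.Modules) (PX j)) {d : ℕ}
    (hd : topologicalKrullDim ↥(CohB1.support E) ≤ (d : WithBot ℕ∞)) :
    (parPoly 𝓔 PX).natDegree ≤ d := by
  rw [parPoly_eq_sub k hL hE hcoh hPX]
  refine (Polynomial.natDegree_sub_le _ _).trans (max_le
    (Polynomial.natDegree_map_le.trans (natDegree_hilb_le k hL hE hd)) ?_)
  refine Polynomial.natDegree_sum_le_of_forall_le _ _ fun j _ => ?_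
  refine (Polynomial.natDegree_C_mul_le _ _).trans (Polynomial.natDegree_map_le.trans ?_)
  exact natDegree_hilb_le k hL (HilbPolyX.isCoh_of_monoCokernel _ (hcoh _) hE)
    (dim_le_of_epi (cokernel.π _) hd)

end Groth.Agent.ParShLib
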